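import Cfsg.Prelude.Def_CaseTheorems
import Cfsg.Agent.Lib.Cores.Basic
import Cfsg.Agent.Lib.Cores.Pi
import Cfsg.Agent.Lib.Classif.PTimesQ
import Cfsg.Agent.Lib.SolvCentAb12.Lift
import Cfsg.Agent.Lib.ZStar.Elements

/-!
# Groups with a normal Sylow `2`-subgroup modulo the odd core

`TwoClosed G`: a product of two `2`-elements is a `2`-element modulo `O(G)`.
-/

set_option autoImplicit false
set_option linter.style.haveILetI false
set_option linter.unusedSectionVars false

namespace Cfsg.Agent.Lib.U3Type59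

open Subgroup

universe u v

/-- `g` is a `2`-element. -/
def TwoElt {G : Type u} [Group G] (g : G) : Prop := ∃ m : ℕ, g ^ 2 ^ m = 1

/-- The `2`-elements form a subgroup modulo the odd core. -/
def TwoClosed (G : Type u) [Group G] : Prop :=
  ∀ x y : G, TwoElt x → TwoElt y → ∃ m : ℕ, (x * y) ^ 2 ^ m ∈ Cfsg.oddCore G

variable {G : Type u} [Group G] [Finite G] {G' : Type v} [Group G'] [Finite G']

theorem twoElt_of_mem {P : Subgroup G} (hP : IsPGroup 2 P) {x : G} (hx : x ∈ P) : TwoElt x := by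
  obtain ⟨m, hm⟩ := hP ⟨x, hx⟩
  exact ⟨m, congrArg Subtype.val hm⟩

theorem TwoElt.zpowers {x : G} (hx : TwoElt x) : IsPGroup 2 (Subgroup.zpowers x) := by
  obtain ⟨m, hm⟩ := hx
  rintro ⟨y, k, rfl⟩
  refine ⟨m, Subtype.ext ?_⟩
  show (x ^ k) ^ 2 ^ m = 1
  rw [← zpow_natCast, ← zpow_mul, mul_comm, zpow_mul, zpow_natCast, hm, one_zpow]

theorem TwoElt.exists_mem {x : G} (hx : TwoElt x) : ∃ S : Sylow 2 G, x ∈ (S : Subgroup G) := by
  obtain ⟨S, hS⟩ := hx.zpowers.exists_le_sylow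
  exact ⟨S, hS (mem_zpowers x)⟩

theorem TwoElt.conj {x : G} (hx : TwoElt x) (g : G) : TwoElt (g * x * g⁻¹) := by
  obtain ⟨m, hm⟩ := hx
  exact ⟨m, by rw [conj_pow, hm, mul_one, mul_inv_cancel]⟩

theorem TwoElt.map {x : G} (hx : TwoElt x) (f : G →* G') : TwoElt (f x) := by
  obtain ⟨m, hm⟩ := hx
  exact ⟨m, by rw [← map_pow, hm, map_one]⟩

theorem eq_one_of_odd {x : G} (hx : TwoElt x) (ho : Odd (orderOf x)) : x = 1 := by
  obtain ⟨m, hm⟩ := hx
  obtain ⟨i, -, hi⟩ := (Nat.dvd_prime_pow Nat.prime_two).1 (orderOf_dvd_of_pow_eq_one hm)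
  rcases i with _ | i
  · exact orderOf_eq_one_iff.1 (by simpa using hi)
  · exact absurd (hi ▸ ho) (Nat.not_odd_iff_even.2 ((Nat.even_pow' (by omega)).2 even_two))

theorem odd_orderOf_of_mem {K : Subgroup G} (hK : Odd (Nat.card K)) {x : G} (hx : x ∈ K) :
    Odd (orderOf x) :=
  hK.of_dvd_nat (Subgroup.orderOf_dvd_natCard _ hx)

/-- A `2`-element of a quotient is the image of a `2`-element. -/
theorem exists_lift {f : G →* G'} (hf : Function.Surjective f) {y : G'} (hy : TwoElt y) :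
    ∃ x : G, TwoElt x ∧ f x = y := by
  obtain ⟨g, rfl⟩ := hf y
  obtain ⟨m, hm⟩ := hy
  obtain ⟨k, r, hr, hkr⟩ :=
    Nat.exists_eq_pow_mul_and_not_dvd (orderOf_pos g).ne' 2 (by norm_num)
  have hcop : r.Coprime (orderOf (f g)) := by
    obtain ⟨i, -, hi⟩ := (Nat.dvd_prime_pow Nat.prime_two).1 (orderOf_dvd_of_pow_eq_one hm)
    rw [hi]
    exact Nat.Coprime.pow_right _ ((Nat.prime_two.coprime_iff_not_dvd.2 hr).symm)
  obtain ⟨j, hj⟩ := exists_pow_eq_self_of_coprime hcop
  refine ⟨(g ^ r) ^ j, ⟨k, ?_⟩, by rw [map_pow, map_pow, hj]⟩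
  rw [← pow_mul, ← pow_mul, show r * (j * 2 ^ k) = 2 ^ k * r * j by ring, pow_mul, ← hkr,
    pow_orderOf_eq_one, one_pow]

theorem oddCore_odd' : Odd (Nat.card (Cfsg.oddCore G)) := ZStar.Elements.oddCore_odd

theorem le_oddCore' {N : Subgroup G} [N.Normal] (h : Odd (Nat.card N)) : N ≤ Cfsg.oddCore G :=
  ZStar.Elements.le_oddCore h

theorem TwoClosed.map (hG : TwoClosed G) {f : G →* G'} (hf : Function.Surjective f) :
    TwoClosed G' := by
  intro x y hx hy
  obtain ⟨x', hx', rfl⟩ := exists_lift hf hx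
  obtain ⟨y', hy', rfl⟩ := exists_lift hf hy
  obtain ⟨m, hm⟩ := hG x' y' hx' hy'
  refine ⟨m, Cores.map_pPrimeCore_le f hf ?_⟩
  rw [← map_mul, ← map_pow]
  exact Subgroup.mem_map_of_mem f hm

theorem TwoClosed.of_equiv (hG : TwoClosed G) (e : G ≃* G') : TwoClosed G' :=
  hG.map (f := e.toMonoidHom) e.surjective

theorem TwoClosed.subgroup (hG : TwoClosed G) (H : Subgroup G) : TwoClosed H := by
  intro x y hx hy
  obtain ⟨m, hm⟩ := hG x y (hx.map H.subtype) (hy.map H.subtype)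
  refine ⟨m, ?_⟩
  have hle : (Cfsg.oddCore G).subgroupOf H ≤ Cfsg.oddCore H := by
    refine le_oddCore' ((oddCore_odd' (G := G)).of_dvd_nat ?_)
    refine (Nat.card_congr (Subgroup.equivMapOfInjective _ _ H.subtype_injective).toEquiv).dvd.trans
      (Subgroup.card_dvd_of_le ?_)
    rw [Subgroup.subgroupOf_map_subtype]
    exact inf_le_left
  refine hle ?_
  rw [Subgroup.mem_subgroupOf]
  simpa using hm

theorem TwoClosed.mono {H K : Subgroup G} (hK : TwoClosed K) (hHK : H ≤ K) : TwoClosed H :=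
  (hK.subgroup (H.subgroupOf K)).of_equiv (Subgroup.subgroupOfEquivOfLe hHK)

theorem card_comap_mk (N : Subgroup G) [N.Normal] (K : Subgroup (G ⧸ N)) :
    Nat.card (K.comap (QuotientGroup.mk' N)) = Nat.card K * Nat.card N := by
  have h1 := (K.comap (QuotientGroup.mk' N)).card_mul_index
  rw [Subgroup.index_comap_of_surjective _ (QuotientGroup.mk'_surjective N)] at h1
  have h2 : Nat.card G = Nat.card K * K.index * Nat.card N := by
    rw [K.card_mul_index, ← Subgroup.index_eq_card, mul_comm, N.card_mul_index]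
  refine Nat.eq_of_mul_eq_mul_right (Nat.pos_of_ne_zero Subgroup.FiniteIndex.index_ne_zero)
    (h1.trans (h2.trans ?_))
  ring

theorem odd_card_comap (N : Subgroup G) [N.Normal] (hN : Odd (Nat.card N))
    (K : Subgroup (G ⧸ N)) (hK : Odd (Nat.card K)) :
    Odd (Nat.card (K.comap (QuotientGroup.mk' N))) := by
  rw [card_comap_mk]
  exact hK.mul hN

theorem twoClosed_of_odd_quotient (N : Subgroup G) [N.Normal] (hN : Odd (Nat.card N))
    (h : TwoClosed (G ⧸ N)) : TwoClosed G := by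
  intro x y hx hy
  obtain ⟨m, hm⟩ := h _ _ (hx.map (QuotientGroup.mk' N)) (hy.map (QuotientGroup.mk' N))
  refine ⟨m, le_oddCore' (odd_card_comap N hN _ oddCore_odd') ?_⟩
  rw [Subgroup.mem_comap, map_pow, map_mul]
  exact hm

/-- A group whose Sylow `2`-subgroup is normal. -/
theorem twoClosed_of_normal (S : Sylow 2 G) (hS : (S : Subgroup G).Normal) : TwoClosed G := by
  haveI : Fact (Nat.Prime 2) := ⟨Nat.prime_two⟩
  haveI := Sylow.unique_of_normal S hS
  have hall : ∀ x : G, TwoElt x → x ∈ (S : Subgroup G) := fun x hx => by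
    obtain ⟨T, hT⟩ := hx.exists_mem
    rwa [Subsingleton.elim T S] at hT
  intro x y hx hy
  obtain ⟨m, hm⟩ := twoElt_of_mem S.2 (mul_mem (hall x hx) (hall y hy))
  exact ⟨m, by rw [hm]; exact one_mem _⟩

/-- A group whose odd core has `2`-power index. -/
theorem twoClosed_of_index {m : ℕ} (h : (Cfsg.oddCore G).index = 2 ^ m) : TwoClosed G := by
  intro x y _ _
  refine ⟨m, (QuotientGroup.eq_one_iff _).1 ?_⟩
  rw [QuotientGroup.mk_pow, ← h, Subgroup.index_eq_card]
  exact pow_card_eq_one'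

theorem TwoClosed.mul_twoElt (hG : TwoClosed G) (hO : Cfsg.oddCore G = ⊥) {x y : G}
    (hx : TwoElt x) (hy : TwoElt y) : TwoElt (x * y) := by
  obtain ⟨m, hm⟩ := hG x y hx hy
  rw [hO, Subgroup.mem_bot] at hm
  exact ⟨m, hm⟩

theorem TwoClosed.mem_sylow (hG : TwoClosed G) (hO : Cfsg.oddCore G = ⊥) (S : Sylow 2 G) {x : G}
    (hx : TwoElt x) : x ∈ (S : Subgroup G) := by
  let T : Subgroup G :=
    { carrier := {g | TwoElt g}
      one_mem' := ⟨0, one_pow _⟩
      mul_mem' := fun {a b} ha hb => hG.mul_twoElt hO ha hb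
      inv_mem' := fun {a} ⟨m, hm⟩ => ⟨m, by rw [inv_pow, hm, inv_one]⟩ }
  have hT : IsPGroup 2 T := fun ⟨g, m, hm⟩ => ⟨m, Subtype.ext hm⟩
  have := S.3 hT fun g hg => twoElt_of_mem S.2 hg
  exact this ▸ (show x ∈ T from hx)

theorem TwoClosed.sylow_normal (hG : TwoClosed G) (hO : Cfsg.oddCore G = ⊥) (S : Sylow 2 G) :
    (S : Subgroup G).Normal :=
  ⟨fun _ hx g => hG.mem_sylow hO S ((twoElt_of_mem S.2 hx).conj g)⟩

/-- The Frattini argument for a `2`-closed group. -/
theorem TwoClosed.frattini (hG : TwoClosed G) (S : Sylow 2 G) :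
    Cfsg.oddCore G ⊔ Subgroup.normalizer ((S : Subgroup G) : Set G) = ⊤ := by
  haveI : Fact (Nat.Prime 2) := ⟨Nat.prime_two⟩
  set π := QuotientGroup.mk' (Cfsg.oddCore G) with hπ
  have hsurj : Function.Surjective π := QuotientGroup.mk'_surjective _
  have hbar := (hG.map hsurj).sylow_normal (Cores.pPrimeCore_quotient_pPrimeCore 2)
    (S.mapSurjective hsurj)
  rw [Sylow.coe_mapSurjective] at hbar
  haveI hN := hbar.comap π
  have hle : (S : Subgroup G) ≤ ((S : Subgroup G).map π).comap π := Subgroup.le_comap_map _ _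
  have h := Sylow.normalizer_sup_eq_top' (N := ((S : Subgroup G).map π).comap π) S hle
  refine top_le_iff.1 (h.ge.trans (sup_le le_sup_right ?_))
  rw [Subgroup.comap_map_eq, hπ, QuotientGroup.ker_mk']
  exact sup_le (Subgroup.le_normalizer.trans le_sup_right) le_sup_left

theorem twoClosed_of_frattini (S : Sylow 2 G)
    (h : Cfsg.oddCore G ⊔ Subgroup.normalizer ((S : Subgroup G) : Set G) = ⊤) : TwoClosed G := by
  haveI : Fact (Nat.Prime 2) := ⟨Nat.prime_two⟩
  set π := QuotientGroup.mk' (Cfsg.oddCore G) with hπ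
  have hsurj : Function.Surjective π := QuotientGroup.mk'_surjective _
  refine twoClosed_of_odd_quotient _ oddCore_odd'
    (twoClosed_of_normal (S.mapSurjective hsurj) ?_)
  rw [Sylow.coe_mapSurjective, ← Subgroup.normalizer_eq_top_iff]
  refine top_le_iff.1 ?_
  rw [← Subgroup.map_top_of_surjective π hsurj, ← h, Subgroup.map_sup]
  refine sup_le ?_ (Subgroup.le_normalizer_map π)
  rintro _ ⟨o, ho, rfl⟩
  rw [show π o = 1 from (QuotientGroup.eq_one_iff o).2 ho]
  exact one_mem _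

/-- In a subgroup with a central Sylow `2`-subgroup the elements of odd order form a subgroup. -/
theorem odd_mem_oddCore (K : Subgroup G) [hK : K.Normal] (P : Sylow 2 K)
    (hP : (P : Subgroup K) ≤ Subgroup.center K) {x : G} (hx : x ∈ K) (ho : Odd (orderOf x)) :
    x ∈ Cfsg.oddCore G := by
  haveI : Fact (Nat.Prime 2) := ⟨Nat.prime_two⟩
  have hNP : Subgroup.normalizer ((P : Subgroup K) : Set K) ≤
      Subgroup.centralizer ((P : Subgroup K) : Set K) := fun g _ =>
    Subgroup.mem_centralizer_iff.2 fun p hp => (Subgroup.mem_center_iff.1 (hP hp) g).symm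
  set L := (MonoidHom.transferSylow P hNP).ker with hL
  have hLodd : Odd (Nat.card L) := Nat.odd_iff.2 (by
    have := MonoidHom.not_dvd_card_ker_transferSylow P hNP
    rw [← hL] at this
    omega)
  have hmem : ∀ g : K, g ∈ L ↔ Odd (orderOf (g : G)) := by
    intro g
    refine ⟨fun hg => ?_, fun hg => ?_⟩
    · rw [Subgroup.orderOf_coe]
      exact odd_orderOf_of_mem hLodd hg
    · obtain ⟨k, hk⟩ := P.2 (MonoidHom.transferSylow P hNP g)
      have hodd : Odd (orderOf (MonoidHom.transferSylow P hNP g)) := by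
        refine hg.of_dvd_nat ?_
        rw [Subgroup.orderOf_coe]
        exact orderOf_map_dvd _ g
      exact eq_one_of_odd ⟨k, hk⟩ hodd
  haveI : (L.map K.subtype).Normal := by
    refine ⟨?_⟩
    rintro _ ⟨g, hg, rfl⟩ c
    refine ⟨⟨c * g * c⁻¹, hK.conj_mem _ g.2 c⟩, (hmem _).2 ?_, rfl⟩
    show Odd (orderOf (c * (g : G) * c⁻¹))
    rw [show c * (g : G) * c⁻¹ = MulAut.conj c (g : G) from rfl, MulEquiv.orderOf_eq]
    exact (hmem g).1 hg
  refine le_oddCore' (N := L.map K.subtype) ?_ ⟨⟨x, hx⟩, (hmem _).2 ho, rfl⟩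
  rwa [Subgroup.card_map_of_injective K.subtype_injective]

/-- The preimage of the odd core modulo a central `2`-subgroup. -/
theorem pow_mem_oddCore (Z : Subgroup G) [Z.Normal] (hZ : Z ≤ Subgroup.center G)
    (hZ2 : IsPGroup 2 Z) : ∃ k : ℕ, ∀ g : G,
      QuotientGroup.mk' Z g ∈ Cfsg.oddCore (G ⧸ Z) → g ^ 2 ^ k ∈ Cfsg.oddCore G := by
  haveI : Fact (Nat.Prime 2) := ⟨Nat.prime_two⟩
  obtain ⟨k, hk⟩ := IsPGroup.iff_card.1 hZ2
  refine ⟨k, fun g hg => ?_⟩
  set π := QuotientGroup.mk' Z with hπ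
  set K := (Cfsg.oddCore (G ⧸ Z)).comap π with hKdef
  have hZK : Z ≤ K := fun z hz => by
    show π z ∈ Cfsg.oddCore (G ⧸ Z)
    rw [show π z = 1 from (QuotientGroup.eq_one_iff z).2 hz]
    exact one_mem _
  have hidx : ¬ 2 ∣ (Z.subgroupOf K).index := by
    have h1 : Z.relIndex K = Nat.card (Cfsg.oddCore (G ⧸ Z)) := by
      have e := (Z.subgroupOf K).card_mul_index
      rw [Nat.card_congr (Subgroup.subgroupOfEquivOfLe hZK).toEquiv, hKdef, hπ, card_comap_mk,
        mul_comm (Nat.card ↥(Cfsg.oddCore (G ⧸ Z)))] at e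
      exact Nat.eq_of_mul_eq_mul_left Nat.card_pos e
    rw [show (Z.subgroupOf K).index = Z.relIndex K from rfl, h1]
    exact fun h => Nat.not_odd_iff_even.2 (even_iff_two_dvd.2 h) oddCore_odd'
  set P := ((hZ2.comap_of_injective K.subtype K.subtype_injective : IsPGroup 2 (Z.subgroupOf K))).toSylow hidx
  refine odd_mem_oddCore K P (fun z hz => Subgroup.mem_center_iff.2 fun w => Subtype.ext ?_)
    (pow_mem (show g ∈ K from hg) _) ?_
  · exact Subgroup.mem_center_iff.1 (hZ hz) w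
  · set r := orderOf (π g)
    have hr : Odd r := odd_orderOf_of_mem oddCore_odd' hg
    have hgr : g ^ r ∈ Z := (QuotientGroup.eq_one_iff _).1 (by
      show π (g ^ r) = 1
      rw [map_pow, pow_orderOf_eq_one])
    have h1 : (g ^ 2 ^ k) ^ r = 1 := by
      rw [← pow_mul, mul_comm, pow_mul, ← hk]
      exact congrArg Subtype.val (pow_card_eq_one' (x := (⟨g ^ r, hgr⟩ : Z)))
    exact hr.of_dvd_nat (orderOf_dvd_of_pow_eq_one h1)

theorem twoClosed_of_central_quotient (Z : Subgroup G) [Z.Normal] (hZ : Z ≤ Subgroup.center G)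
    (hZ2 : IsPGroup 2 Z) (h : TwoClosed (G ⧸ Z)) : TwoClosed G := by
  obtain ⟨k, hk⟩ := pow_mem_oddCore Z hZ hZ2
  intro x y hx hy
  obtain ⟨m, hm⟩ := h _ _ (hx.map (QuotientGroup.mk' Z)) (hy.map (QuotientGroup.mk' Z))
  refine ⟨m + k, ?_⟩
  rw [pow_add, pow_mul]
  exact hk _ (by rw [map_pow, map_mul]; exact hm)

theorem oddCore_quotient_eq_bot (Z : Subgroup G) [Z.Normal] (hZ : Z ≤ Subgroup.center G)
    (hZ2 : IsPGroup 2 Z) (hO : Cfsg.oddCore G = ⊥) : Cfsg.oddCore (G ⧸ Z) = ⊥ := by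
  obtain ⟨k, hk⟩ := pow_mem_oddCore Z hZ hZ2
  refine le_bot_iff.1 fun y hy => ?_
  obtain ⟨g, rfl⟩ := QuotientGroup.mk'_surjective Z y
  have h := hk g hy
  rw [hO, Subgroup.mem_bot] at h
  exact Subgroup.mem_bot.2 (eq_one_of_odd ⟨k, by rw [← map_pow, h, map_one]⟩
    (odd_orderOf_of_mem oddCore_odd' hy))

/-- With trivial odd core an element of odd order centralising a normal Sylow subgroup is trivial. -/
theorem eq_one_of_centralizes (hO : Cfsg.oddCore G = ⊥) (S : Sylow 2 G)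
    (hS : (S : Subgroup G).Normal) {y : G} (hy : Odd (orderOf y))
    (hc : ∀ s ∈ (S : Subgroup G), s * y = y * s) : y = 1 := by
  haveI : Fact (Nat.Prime 2) := ⟨Nat.prime_two⟩
  haveI := hS
  obtain ⟨Q, hQ⟩ := IsPGroup.exists_le_sylow
    (S.2.comap_of_injective (Subgroup.centralizer ((S : Subgroup G) : Set G)).subtype
      (Subgroup.subtype_injective _))
  haveI := Sylow.unique_of_normal S hS
  have hQc : (Q : Subgroup ↥(Subgroup.centralizer ((S : Subgroup G) : Set G))) ≤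
      Subgroup.center _ := by
    intro q hq
    obtain ⟨T, hT⟩ := ((twoElt_of_mem Q.2 hq).map (Subgroup.subtype _)).exists_mem
    rw [Subsingleton.elim T S] at hT
    exact Subgroup.mem_center_iff.2 fun w =>
      Subtype.ext (Subgroup.mem_centralizer_iff.1 w.2 _ hT).symm
  have := odd_mem_oddCore _ Q hQc (x := y) (Subgroup.mem_centralizer_iff.2 hc) hy
  rwa [hO, Subgroup.mem_bot] at this

/-- Balance: an odd subgroup centralised by the involution `u` and normalised by `C(u)` lies in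
the odd core of a `2`-closed group. -/
theorem TwoClosed.le_oddCore_of_invariant (hG : TwoClosed G) {t : G} (ht : orderOf t = 2)
    (Y : Subgroup G) (hY : Odd (Nat.card Y)) (hYt : ∀ y ∈ Y, y * t = t * y)
    (hnorm : ∀ c : G, c * t = t * c → ∀ y ∈ Y, c * y * c⁻¹ ∈ Y) : Y ≤ Cfsg.oddCore G := by
  haveI : Fact (Nat.Prime 2) := ⟨Nat.prime_two⟩
  set π := QuotientGroup.mk' (Cfsg.oddCore G) with hπ
  have hsurj : Function.Surjective π := QuotientGroup.mk'_surjective _
  have hObar : Cfsg.oddCore (G ⧸ Cfsg.oddCore G) = ⊥ := Cores.pPrimeCore_quotient_pPrimeCore 2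
  obtain ⟨S⟩ := (inferInstance : Nonempty (Sylow 2 G))
  set T := S.mapSurjective hsurj with hT
  have hTn : (T : Subgroup (G ⧸ Cfsg.oddCore G)).Normal := (hG.map hsurj).sylow_normal hObar T
  have htT : π t ∈ (T : Subgroup (G ⧸ Cfsg.oddCore G)) :=
    (hG.map hsurj).mem_sylow hObar T ⟨1, by
      rw [← map_pow, pow_one, show t ^ 2 = 1 by rw [← ht, pow_orderOf_eq_one], map_one]⟩
  intro y hy
  refine (QuotientGroup.eq_one_iff y).1 ?_
  have hyodd : Odd (orderOf (π y)) := (odd_orderOf_of_mem hY hy).of_dvd_nat (orderOf_map_dvd π y)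
  refine eq_one_of_centralizes hObar T hTn hyodd fun s hs => ?_
  refine (Classif.pTimesQ (p := 2) (T : Subgroup (G ⧸ Cfsg.oddCore G)) (Subgroup.zpowers (π t)) (π y) T.2 ?_ ?_ ?_
    (Nat.coprime_two_right.2 hyodd) ?_ ?_ s hs).symm
  · exact T.2.to_le (Subgroup.zpowers_le.2 htT)
  · exact (Subgroup.zpowers_le.2 htT).trans Subgroup.le_normalizer
  · exact fun x hx => hTn.conj_mem x hx _
  · intro z hz
    obtain ⟨k, rfl⟩ := hz
    exact (Commute.zpow_right (show Commute (π y) (π t) by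
      rw [Commute, SemiconjBy, ← map_mul, ← map_mul, hYt y hy]) k)
  · intro r hr hrt
    have hr' : r ∈ Subgroup.centralizer ({π t} : Set (G ⧸ Cfsg.oddCore G)) :=
      Subgroup.mem_centralizer_singleton_iff.2 (hrt _ (Subgroup.mem_zpowers _)).symm
    have hlift := SolvCentAb12.map_centralizer_invol (Cfsg.oddCore G) oddCore_odd' ht
    rw [show (QuotientGroup.mk t : G ⧸ Cfsg.oddCore G) = π t from rfl] at hlift
    rw [← hlift] at hr'
    obtain ⟨c, hc, rfl⟩ := hr'
    have h1 : π (y * (c * y⁻¹ * c⁻¹)) ∈ (T : Subgroup (G ⧸ Cfsg.oddCore G)) := by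
      rw [show y * (c * y⁻¹ * c⁻¹) = y * c * y⁻¹ * c⁻¹ by group, map_mul, map_mul, map_mul,
        map_inv, map_inv]
      exact mul_mem (hTn.conj_mem _ hr _) (inv_mem hr)
    have h2 : y * (c * y⁻¹ * c⁻¹) ∈ Y :=
      mul_mem hy (hnorm c (Subgroup.mem_centralizer_singleton_iff.1 hc) _ (inv_mem hy))
    have h3 : π (y * (c * y⁻¹ * c⁻¹)) = 1 :=
      eq_one_of_odd (twoElt_of_mem T.2 h1)
        ((odd_orderOf_of_mem hY h2).of_dvd_nat (orderOf_map_dvd π _))
    rw [map_mul, map_mul, map_mul, map_inv, map_inv] at h3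
    have h4 : π y * π c * (π c * π y)⁻¹ = 1 := by rw [← h3]; group
    exact mul_inv_eq_one.1 h4

end Cfsg.Agent.Lib.U3Type59
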