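import Cfsg.Agent.Lib.Goldschmidt53.Local
import Cfsg.Agent.Lib.Goldschmidt53.FactsCover
import Cfsg.Agent.Lib.U3Sylow.Aut
import Cfsg.Agent.Lib.PGroups.Omega
import Cfsg.Agent.Lib.PGroups.ElemAb

/-!
# A Sylow 2-subgroup of the type of `U₃(q)`: `Ω₁(S) = Z(S)` is strongly closed
-/

set_option autoImplicit false
set_option linter.style.haveILetI false
set_option linter.unusedSectionVars false

universe u w

namespace Cfsg.Agent.Lib.U3Type59

open Subgroup Goldschmidt53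
open Goldschmidt53.FactsCover (omega_coords full_coords)

variable {X : Type u} [Group X] [Finite X] {F : Type w} [Field F] [Fintype F] {n : ℕ}
  (hF : Fintype.card F = (2 ^ n) ^ 2) {S : Sylow 2 X}
  (c : U3Sylow.Coords F (2 ^ n) ↥(S : Subgroup X))
include hF c

theorem Om.mem_center_coords {x : X} :
    x ∈ Om S ↔ ∃ z ∈ center ↥(S : Subgroup X), (z : X) = x := by
  constructor
  · intro hx
    exact ⟨⟨x, PGroups.omegaOne_le 2 _ hx⟩, (c.mem_center_iff hF).2
      ((omega_coords hF S c ⟨x, PGroups.omegaOne_le 2 _ hx⟩).1 hx), rfl⟩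
  · rintro ⟨z, hz, rfl⟩
    exact (omega_coords hF S c z).2 ((c.mem_center_iff hF).1 hz)

/-- `Ω₁(S)` is central in `S`. -/
theorem Om.comm {t : X} (ht : t ∈ (S : Subgroup X)) {a : X} (ha : a ∈ Om S) : t * a = a * t := by
  obtain ⟨z, hz, rfl⟩ := (Om.mem_center_coords hF c).1 ha
  exact congrArg Subtype.val (mem_center_iff.1 hz ⟨t, ht⟩)

/-- Involutions of `S` lie in `Ω₁(S)`. -/
theorem Om.of_sq {x : X} (hx : x ∈ (S : Subgroup X)) (h : x * x = 1) : x ∈ Om S :=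
  (omega_coords hF S c ⟨x, hx⟩).2 ((c.sq_eq_one_iff hF).1 (Subtype.ext h))

/-- `Ω₁(S)` has exponent 2. -/
theorem Om.sq {x : X} (hx : x ∈ Om S) : x * x = 1 :=
  congrArg Subtype.val ((c.sq_eq_one_iff hF (s := ⟨x, PGroups.omegaOne_le 2 _ hx⟩)).2
    ((omega_coords hF S c ⟨x, PGroups.omegaOne_le 2 _ hx⟩).1 hx))

/-- Commutators of `S` lie in `Ω₁(S)`. -/
theorem Om.commutator_mem {t s : X} (ht : t ∈ (S : Subgroup X)) (hs : s ∈ (S : Subgroup X)) :
    t * s * t⁻¹ * s⁻¹ ∈ Om S := by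
  haveI := U3Sylow.charP_two hF
  set t' : ↥(S : Subgroup X) := ⟨t, ht⟩
  set s' : ↥(S : Subgroup X) := ⟨s, hs⟩
  refine (omega_coords hF S c (t' * s' * t'⁻¹ * s'⁻¹)).2 ?_
  have h1 := c.a_mul t' t'⁻¹
  have h2 := c.a_mul s' s'⁻¹
  rw [mul_inv_cancel, c.a_one] at h1 h2
  rw [c.a_mul, c.a_mul, c.a_mul]
  linear_combination -h1 - h2

theorem Om.elementary : Cfsg.IsElementaryAbelian 2 (Om S) :=
  PGroups.elemAb_mk (fun _ ha _ hb => Om.comm hF c (PGroups.omegaOne_le 2 _ ha) hb)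
    fun a ha => by rw [pow_two]; exact Om.sq hF c ha

theorem Om.stronglyClosed : Cfsg.IsStronglyClosed (Om S) (S : Subgroup X) :=
  ⟨PGroups.omegaOne_le 2 _, fun x hx g hg => Om.of_sq hF c hg (by
    rw [show g * x * g⁻¹ * (g * x * g⁻¹) = g * (x * x) * g⁻¹ by group, Om.sq hF c hx, mul_one,
      mul_inv_cancel])⟩

/-- The setting of the section on the local structure. -/
theorem localSetting (hP : PropSimple.{u}) (hO : Cfsg.oddCore X = ⊥) :
    LocalSetting S (Om S) (Nat.card X + 1) :=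
  ⟨hO, Nat.lt_succ_self _, hP _, Om.elementary hF c, Om.stronglyClosed hF c⟩

theorem exists_notMem_om : ∃ x ∈ (S : Subgroup X), x ∉ Om S := by
  obtain ⟨s, hs⟩ := c.exists_a hF 1
  exact ⟨s, s.2, fun h => one_ne_zero (hs.symm.trans ((omega_coords hF S c s).1 h))⟩

end Cfsg.Agent.Lib.U3Type59
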