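import Cfsg.Agent.Lib.U3Type59.Split
import Cfsg.Agent.Lib.U3Type59.Setting
import Cfsg.Agent.Lib.Goldschmidt92.Main
import Cfsg.Agent.Lib.LatticeUnitary.Transport
import Cfsg.Agent.Lib.Walter.Assemble
import Cfsg.Agent.Lib.ZStar.Elements

/-!
# A component moved by `Ω₁(S)`, `S` of the type of `U₃(q)`: it is `U₃(q)` of odd index
-/

set_option autoImplicit false
set_option linter.style.haveILetI false
set_option linter.unusedSectionVars false

universe u v w

namespace Cfsg.Agent.Lib.U3Type59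

open Subgroup Goldschmidt53
open Goldschmidt53.FactsCover (omega_coords full_coords card_sz)

theorem comm_transfer {G : Type u} [Group G] [Finite G] (S : Sylow 2 G) {H : Type v} [Group H]
    [Finite H] (e : G ≃* H) (h : ∀ P : Sylow 2 H, ∀ x ∈ (P : Subgroup H), ∀ y ∈ (P : Subgroup H),
      x * y = y * x) {x : G} (hx : x ∈ (S : Subgroup G)) {y : G} (hy : y ∈ (S : Subgroup G)) :
    x * y = y * x := by
  haveI : Fact (Nat.Prime 2) := ⟨Nat.prime_two⟩
  refine e.injective ?_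
  rw [map_mul, map_mul]
  exact h (S.mapSurjective (f := e.toMonoidHom) e.surjective) _ ⟨x, hx, rfl⟩ _ ⟨y, hy, rfl⟩

/-- A known group with a Sylow 2-subgroup of the type of `U₃(q)` is `U₃(q)`. -/
theorem psu_of_known {L : Type u} [Group L] [Finite L] (hk : IsKnown L) {F : Type w} [Field F]
    [Fintype F] {n : ℕ} (hn : 1 ≤ n) (hF : Fintype.card F = (2 ^ n) ^ 2) (P : Sylow 2 L)
    (c : U3Sylow.Coords F (2 ^ n) ↥(P : Subgroup L)) :
    Nonempty (L ≃* Cfsg.PSU 3 F (2 ^ n)) := by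
  haveI : Fact (Nat.Prime 2) := ⟨Nat.prime_two⟩
  obtain ⟨x₁, hx₁, hx₁'⟩ := exists_notMem_om hF c
  have hna : ∀ h : ∀ x ∈ (P : Subgroup L), ∀ y ∈ (P : Subgroup L), x * y = y * x, False := by
    intro h
    refine hx₁' ((omega_coords hF P c ⟨x₁, hx₁⟩).2 ((c.mem_center_iff hF).1 ?_))
    exact mem_center_iff.2 fun g => Subtype.ext (h g g.2 x₁ hx₁)
  have hcard : Nat.card ↥(P : Subgroup L) = (2 ^ n) ^ 3 := c.card_eq hF
  rcases hk with (⟨m, K, iK, jK, hm, hK, ⟨e⟩⟩ | ⟨K, iK, jK, hq, -, ⟨e⟩⟩ | hJ) |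
      (⟨K, iK, jK, m, hm, hK, ⟨e⟩⟩ | ⟨K, iK, jK, m, hm, hK, ⟨e⟩⟩)
  · obtain ⟨Q, hQ⟩ := Goldschmidt92.abelian_sylow_PSL_even (F := K) hK (by omega)
    refine (hna (fun x hx y hy => comm_transfer P e (fun R x hx y hy => ?_) hx hy)).elim
    haveI := hQ
    exact congrArg Subtype.val ((Sylow.equiv R Q).injective
      (show Sylow.equiv R Q (⟨x, hx⟩ * ⟨y, hy⟩) = Sylow.equiv R Q (⟨y, hy⟩ * ⟨x, hx⟩) by
        rw [map_mul, map_mul, mul_comm']))
  · obtain ⟨Q, hQ⟩ := Goldschmidt92.abelian_sylow (G := Matrix.ProjectiveSpecialLinearGroup (Fin 2) K)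
      (Goldschmidt92.not_eight_dvd_card (F := K) hq)
    refine (hna (fun x hx y hy => comm_transfer P e (fun R x hx y hy => ?_) hx hy)).elim
    haveI := hQ
    exact congrArg Subtype.val ((Sylow.equiv R Q).injective
      (show Sylow.equiv R Q (⟨x, hx⟩ * ⟨y, hy⟩) = Sylow.equiv R Q (⟨y, hy⟩ * ⟨x, hx⟩) by
        rw [map_mul, map_mul, mul_comm']))
  · refine (hna fun x hx y hy => ?_).elim
    haveI := (hJ.elementary P).1
    exact setLike_mul_comm (s := (P : Subgroup L)) hx hy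
  · obtain ⟨ho, hs⟩ := card_sz hm hK e P
    have hom : Om P = (center ↥(P : Subgroup L)).map (P : Subgroup L).subtype :=
      SetLike.ext fun x => (Om.mem_center_coords hF c).trans
        (Subgroup.mem_map (f := (P : Subgroup L).subtype) (K := center _) (y := x)).symm
    rw [hom, card_map_of_injective (subtype_injective _), c.card_center hF] at ho
    rw [hcard, ← ho] at hs
    have := Nat.pow_right_injective (Nat.one_lt_two_pow (by omega : n ≠ 0)) hs
    omega
  · haveI : Finite (Cfsg.PSU 3 K (2 ^ m)) := Finite.of_equiv _ e.toEquiv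
    let Q : Sylow 2 (Cfsg.PSU 3 K (2 ^ m)) := P.mapSurjective (f := e.toMonoidHom) e.surjective
    obtain ⟨d⟩ := U3Sylow.exists_coords_PSU hK Q
    have h3 : (2 ^ m) ^ 3 = (2 ^ n) ^ 3 := by
      rw [← d.card_eq hK, ← hcard]
      exact (Nat.card_congr ((P : Subgroup L).equivMapOfInjective _ e.injective).toEquiv).symm
    obtain rfl : m = n := by
      rw [← pow_mul, ← pow_mul] at h3
      have := Nat.pow_right_injective le_rfl h3
      omega
    obtain ⟨i⟩ := LatticeUnitary.exists_psu_congr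
      (FiniteField.ringEquivOfCardEq (K := K) (K' := F) (by rw [hK, hF])) 3 (2 ^ m)
    exact ⟨e.trans i⟩

variable {X : Type u} [Group X] [Finite X] {F : Type w} [Field F] [Fintype F] {n : ℕ}
  (hF : Fintype.card F = (2 ^ n) ^ 2) {S : Sylow 2 X}
  (c : U3Sylow.Coords F (2 ^ n) ↥(S : Subgroup X))
include hF c

/-- **A component moved by `Ω₁(S)` is `U₃(q)`, normal of odd index.** -/
theorem exists_psu (hn : 1 ≤ n) (hP : PropSimple.{u}) (hO : Cfsg.oddCore X = ⊥) {K : Subgroup X}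
    (hK : Cfsg.IsComponent K) (hAK : ¬ Om S ≤ centralizer (K : Set X)) :
    ∃ N : Subgroup X, N.Normal ∧ Odd N.index ∧ Nonempty (↥N ≃* Cfsg.PSU 3 F (2 ^ n)) := by
  haveI : Fact (Nat.Prime 2) := ⟨Nat.prime_two⟩
  have h := localSetting hF c hP hO
  have hA : ∀ t ∈ (S : Subgroup X), ∀ a ∈ Om S, t * a = a * t := fun t ht a ha => Om.comm hF c ht ha
  have hc : ¬ ∀ x : ↥K, (x : X) ∈ Om S → x ∈ Subgroup.center ↥K := fun hc =>
    hAK (h.le_centralizer hK hc)
  have hSn := sylow_le_normalizer h hA hK hc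
  have hsplit := fun {t : X} (ht : t ∈ (S : Subgroup X)) =>
    exists_mul_centralizer h hA hK hc (fun a ha b hb => Om.commutator_mem hF c ha hb) ht
  -- some element of `S ∩ K` is not in `Ω₁(S)`
  obtain ⟨x₁, hx₁K, hx₁S, hx₁A⟩ : ∃ x ∈ K, x ∈ (S : Subgroup X) ∧ x ∉ Om S := by
    by_contra hall
    push Not at hall
    obtain ⟨x, hx, hxA⟩ := exists_notMem_om hF c
    refine hAK fun w hw => ?_
    obtain ⟨y, hy, rfl⟩ := full_coords hF S c hx hxA hw
    obtain ⟨r, hrK, hrS, hr⟩ := hsplit hx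
    obtain ⟨r', hr'K, hr'S, hr'⟩ := hsplit hy
    have hc1 := Om.comm hF c (mul_mem (inv_mem hrS) hx) (hall r' hr'K hr'S)
    have hc2 := Om.comm hF c hy (hall r hrK hrS)
    rw [show x * y * x⁻¹ * y⁻¹ = (r⁻¹ * x) * (r'⁻¹ * y) * (r⁻¹ * x)⁻¹ * (r'⁻¹ * y)⁻¹ by
      calc x * y * x⁻¹ * y⁻¹
          = r * ((r⁻¹ * x) * r') * (r'⁻¹ * y) * (r⁻¹ * x)⁻¹ * r⁻¹ * y⁻¹ := by group
        _ = r * (r' * (r⁻¹ * x)) * (r'⁻¹ * y) * (r⁻¹ * x)⁻¹ * r⁻¹ * y⁻¹ := by rw [hc1]
        _ = r * r' * ((r⁻¹ * x) * (r'⁻¹ * y) * (r⁻¹ * x)⁻¹ * (r'⁻¹ * y)⁻¹) *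
            (r'⁻¹ * (y * r⁻¹ * y⁻¹)) := by group
        _ = r * r' * ((r⁻¹ * x) * (r'⁻¹ * y) * (r⁻¹ * x)⁻¹ * (r'⁻¹ * y)⁻¹) * (r'⁻¹ * r⁻¹) := by
          rw [show y * r⁻¹ * y⁻¹ = (y * r * y⁻¹)⁻¹ by group, hc2, mul_inv_cancel_right]
        _ = _ := by
          have hw' := Om.commutator_mem hF c (mul_mem (inv_mem hrS) hx) (mul_mem (inv_mem hr'S) hy)
          rw [← Om.comm hF c (mul_mem hrS hr'S) hw' |>.symm]
          group]
    exact mul_mem (mul_mem (mul_mem hr hr') (inv_mem hr)) (inv_mem hr')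
  have hAleK : Om S ≤ K := fun w hw => by
    obtain ⟨y, hy, rfl⟩ := full_coords hF S c hx₁S hx₁A hw
    rw [show x₁ * y * x₁⁻¹ * y⁻¹ = x₁ * (y * x₁⁻¹ * y⁻¹) by group]
    exact mul_mem hx₁K ((mem_normalizer_iff.1 (hSn hy) _).1 (inv_mem hx₁K))
  have hcent : ∀ z ∈ (S : Subgroup X), z ∈ centralizer (K : Set X) → z ∈ Om S := by
    intro z hz hzK
    by_contra hzA
    refine hAK fun w hw => ?_
    obtain ⟨y, hy, rfl⟩ := full_coords hF S c hz hzA hw
    rw [show z * y * z⁻¹ * y⁻¹ = z * (y * z⁻¹ * y⁻¹) by group]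
    refine mul_mem hzK (mem_centralizer_iff.2 fun k hk => ?_)
    have hk' : y⁻¹ * k * y ∈ K := (mem_normalizer_iff''.1 (hSn hy) k).1 hk
    have h1 := mem_centralizer_iff.1 (inv_mem hzK) _ hk'
    calc k * (y * z⁻¹ * y⁻¹) = y * (y⁻¹ * k * y * z⁻¹) * y⁻¹ := by group
      _ = y * (z⁻¹ * (y⁻¹ * k * y)) * y⁻¹ := by rw [h1]
      _ = _ := by group
  have hSK : (S : Subgroup X) ≤ K := fun t ht => by
    obtain ⟨r, hrK, hrS, hr⟩ := hsplit ht
    simpa using mul_mem hrK (hAleK (hcent _ (mul_mem (inv_mem hrS) ht) hr))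
  -- `K` is normal
  have hKn : K.Normal := by
    refine ⟨fun k hk g => ?_⟩
    have heq : K.map (MulAut.conj g).toMonoidHom = K := by
      by_contra hne
      have hK' := Components.Component.conj hK g
      have hSg : (S : Subgroup X).map (MulAut.conj g).toMonoidHom ≤
          centralizer ((S : Subgroup X) : Set X) :=
        ((map_mono hSK).trans (Components.Component.le_centralizer_of_ne hK' hK hne)).trans
          (centralizer_le hSK)
      have hSgN : (S : Subgroup X).map (MulAut.conj g).toMonoidHom ≤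
          normalizer ((S : Subgroup X) : Set X) := hSg.trans (centralizer_le_normalizer _)
      have hp : IsPGroup 2 ↥((S : Subgroup X) ⊔ (S : Subgroup X).map (MulAut.conj g).toMonoidHom) :=
        S.2.to_sup_of_normal_left' (S.2.map _) hSgN
      have hmax := S.3 hp le_sup_left
      have hle : (S : Subgroup X).map (MulAut.conj g).toMonoidHom ≤ (S : Subgroup X) :=
        le_sup_right.trans hmax.le
      have hall : (S : Subgroup X) ≤ centralizer ((S : Subgroup X) : Set X) := by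
        refine le_trans (Subgroup.eq_of_le_of_card_ge hle ?_).ge hSg
        exact (card_map_of_injective (MulAut.conj g).injective).ge
      obtain ⟨x, hx, hxA⟩ := exists_notMem_om hF c
      exact hxA ((omega_coords hF S c ⟨x, hx⟩).2 ((c.mem_center_iff hF).1
        (mem_center_iff.2 fun t => Subtype.ext (mem_centralizer_iff.1 (hall hx) t t.2))))
    rw [← heq]
    exact ⟨k, hk, rfl⟩
  have hidx : Odd K.index :=
    Nat.odd_iff.2 (Nat.two_dvd_ne_zero.1 fun hd => S.not_dvd_index (hd.trans (index_dvd_of_le hSK)))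
  -- `Z(K) = 1`
  obtain ⟨hk, P, hTP, hPT, hOm⟩ := h.known hK hc
  set Z := Subgroup.center ↥K with hZdef
  set q := QuotientGroup.mk' Z with hqdef
  have hZA : ∀ z ∈ Z, (z : X) ∈ Om S := fun z hz =>
    hcent z (h.center_mem_sylow hK hz) (mem_centralizer_iff.2 fun k hk =>
      congrArg Subtype.val (Subgroup.mem_center_iff.1 hz ⟨k, hk⟩))
  have hlift : ∀ w : ↥K, q w ∈ Om P → (w : X) ∈ Om S := fun w hw => by
    rw [← hOm] at hw
    obtain ⟨a, ha, hae⟩ := hw
    simpa using mul_mem (mem_subgroupOf.1 ha) (hZA _ (QuotientGroup.eq.1 hae))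
  have hZ1 : Z = ⊥ := by
    by_contra hne
    have hZp : IsPGroup 2 ↥Z := fun w => ⟨1, Subtype.ext (Subtype.ext (by
      push_cast; rw [pow_two]; exact Om.sq hF c (hZA w w.2)))⟩
    have hbot : (⊥ : Subgroup ↥Z) ≠ ⊤ := fun e => hne (eq_bot_iff.2 fun z hz => by
      have := (e ▸ mem_top (⟨z, hz⟩ : ↥Z) : (⟨z, hz⟩ : ↥Z) ∈ (⊥ : Subgroup ↥Z))
      exact Subgroup.mem_bot.2 (congrArg Subtype.val (Subgroup.mem_bot.1 this)))
    obtain ⟨M, hM, -⟩ :=
      (PGroups.isCoatomic_subgroup.eq_top_or_exists_le_coatom ⊥).resolve_left hbot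
    have hidx := PGroups.coatom_index hZp hM
    set Z₁ : Subgroup ↥K := M.map Z.subtype with hZ₁
    have hZ₁Z : Z₁ ≤ Z := map_subtype_le M
    haveI hZ₁n : Z₁.Normal := ⟨fun x hx g => by
      rwa [Subgroup.mem_center_iff.1 (hZ₁Z hx) g, mul_inv_cancel_right]⟩
    let π : ↥K ⧸ Z₁ →* ↥K ⧸ Z := QuotientGroup.map Z₁ Z (MonoidHom.id _) hZ₁Z
    have hπq : ∀ w : ↥K, π (QuotientGroup.mk' Z₁ w) = q w := fun w => rfl
    have hπs : Function.Surjective π := by
      intro y
      obtain ⟨w, rfl⟩ := QuotientGroup.mk'_surjective Z y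
      exact ⟨QuotientGroup.mk' Z₁ w, rfl⟩
    haveI : Group.IsPerfect ↥K := hK.2.1
    have hperf : Group.IsPerfect (↥K ⧸ Z₁) := inferInstance
    have hker : π.ker = Z.map (QuotientGroup.mk' Z₁) := by
      ext y
      obtain ⟨w, rfl⟩ := QuotientGroup.mk'_surjective Z₁ y
      rw [MonoidHom.mem_ker, hπq, QuotientGroup.mk'_apply, QuotientGroup.eq_one_iff]
      refine ⟨fun hw => mem_map_of_mem _ hw, ?_⟩
      rintro ⟨w', hw', he⟩
      simpa using mul_mem hw' (hZ₁Z (QuotientGroup.eq.1 he))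
    have hcen : π.ker ≤ Subgroup.center (↥K ⧸ Z₁) := by
      rw [hker]
      rintro _ ⟨w, hw, rfl⟩
      refine Subgroup.mem_center_iff.2 fun y => ?_
      obtain ⟨v, rfl⟩ := QuotientGroup.mk'_surjective Z₁ y
      rw [← map_mul, ← map_mul, Subgroup.mem_center_iff.1 hw v]
    have hcard : Nat.card ↥π.ker = 2 := by
      let φ := (QuotientGroup.mk' Z₁).subgroupMap Z
      have hφ : φ.ker = M := by
        ext w
        rw [MonoidHom.mem_ker]
        constructor
        · intro e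
          obtain ⟨w', hw', he⟩ := (QuotientGroup.eq_one_iff _).1 (congrArg Subtype.val e)
          rwa [Subtype.ext he] at hw'
        · exact fun hw => Subtype.ext ((QuotientGroup.eq_one_iff _).2 (mem_map_of_mem _ hw))
      rw [hker, ← hidx, ← hφ, Subgroup.index_ker,
        MonoidHom.range_eq_top.2 ((QuotientGroup.mk' Z₁).subgroupMap_surjective Z), Subgroup.card_top]
    have hcomm : ∀ x y : ↥K ⧸ Z₁, π x ∈ Om P → π y ∈ (P : Subgroup _) → x * y = y * x := by
      intro x y hx hy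
      obtain ⟨v, rfl⟩ := QuotientGroup.mk'_surjective Z₁ x
      obtain ⟨w, rfl⟩ := QuotientGroup.mk'_surjective Z₁ y
      rw [hπq] at hx hy
      obtain ⟨t, ht, hte⟩ := hPT _ hy
      have hwS : (w : X) ∈ (S : Subgroup X) := by
        simpa using mul_mem ht (h.center_mem_sylow hK (QuotientGroup.eq.1 hte))
      rw [← map_mul, ← map_mul, show v * w = w * v from
        Subtype.ext (Om.comm hF c hwS (hlift v hx)).symm]
    obtain ⟨x, hx1, hx2, hxx⟩ :=
      (Goldschmidt53.facts _ hk).cover (↥K ⧸ Z₁) π hπs hperf hcen hcard P hcomm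
    obtain ⟨v, rfl⟩ := QuotientGroup.mk'_surjective Z₁ x
    rw [hπq] at hx1 hx2
    obtain ⟨U, hU⟩ := ((IsPGroup.of_card (n := 1) (by
      rw [Nat.card_zpowers, orderOf_eq_prime (by rw [pow_two]; exact hx2) hx1, pow_one])) :
      IsPGroup 2 ↥(zpowers (q v))).exists_le_sylow
    obtain ⟨g, hg⟩ := MulAction.exists_smul_eq (↥K ⧸ Z) U P
    obtain ⟨k, rfl⟩ := QuotientGroup.mk'_surjective Z g
    have hvP : q k * q v * (q k)⁻¹ ∈ (P : Subgroup _) :=
      ZStar.Elements.smul_mem hg (hU (mem_zpowers _))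
    have hvO : q (k * v * k⁻¹) ∈ Om P := by
      rw [map_mul, map_mul, map_inv]
      exact Subgroup.subset_closure ⟨hvP, by
        rw [pow_two, show q k * q v * (q k)⁻¹ * (q k * q v * (q k)⁻¹) = q k * (q v * q v) * (q k)⁻¹ by
          group, hx2, mul_one, mul_inv_cancel]⟩
    have hsq : (k * v * k⁻¹) * (k * v * k⁻¹) = 1 := Subtype.ext (Om.sq hF c (hlift _ hvO))
    refine hxx ?_
    rw [← map_mul, show v * v = k⁻¹ * ((k * v * k⁻¹) * (k * v * k⁻¹)) * k by group, hsq, mul_one,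
      inv_mul_cancel, map_one]
  obtain ⟨hk', -⟩ := h.known_simple hK hc hZ1
  refine ⟨K, hKn, hidx, psu_of_known hk' hn hF (S.subtype hSK) (c.trans ?_)⟩
  exact (MulEquiv.subgroupCongr (Sylow.coe_subtype (P := S) (h := hSK))).trans
    (subgroupOfEquivOfLe hSK)

end Cfsg.Agent.Lib.U3Type59
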