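import Cfsg.Agent.Lib.U3Type59.Local
import Cfsg.Agent.Lib.BenderSuzuki.Abelian.Main
import Cfsg.Agent.Lib.BenderSuzuki.Main
import Cfsg.Agent.Lib.BenderOne.Final
import Cfsg.Agent.Lib.BenderConsumers23.Structure
import Cfsg.Agent.Lib.Homocyclic.BrauerTheorem
import Cfsg.Agent.Lib.Transfer.Fusion
import Cfsg.Agent.Lib.Homocyclic.TwoTwo

/-!
# Abelian Sylow `2`-subgroups in which every involution is a square

If also all involution centralisers are `2`-closed modulo cores, so is the group.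
-/

set_option autoImplicit false
set_option linter.style.haveILetI false
set_option linter.unusedSectionVars false

namespace Cfsg.Agent.Lib.U3Type59

open Subgroup MulAction
open scoped commutatorElement

universe u

variable {G : Type u} [Group G] [Finite G]

/-- A `2`-element fixing the base point of a rank one setup lies in `Q`. -/
theorem mem_Q_of_twoElt {Ω : Type u} [MulAction G Ω] {a : Ω} {t : G} {Q : Subgroup G}
    (hs : Cfsg.IsRankOneSetup G Ω a t Q) {y : G} (hy : TwoElt y) (hya : y • a = a) : y ∈ Q := by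
  obtain ⟨q, hq, d, hd, rfl⟩ := RankOne.Basic.exists_Q_D hs hya
  obtain ⟨m, hm⟩ := hy
  have hd' : d ∈ MulAction.stabilizer G a := hd.1
  have key : ∀ k : ℕ, ∃ q' ∈ Q, (q * d) ^ k = q' * d ^ k := by
    intro k
    induction k with
    | zero => exact ⟨1, one_mem _, by simp⟩
    | succ k ih =>
      obtain ⟨q', hq', e⟩ := ih
      exact ⟨q' * (d ^ k * q * (d ^ k)⁻¹), mul_mem hq' (hs.conj_mem _ (pow_mem hd' k) _ hq),
        by rw [pow_succ, e, pow_succ]; group⟩
  obtain ⟨q', hq', e⟩ := key (2 ^ m)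
  rw [hm] at e
  have h1 : d ^ 2 ^ m ∈ Q := by
    rw [eq_inv_of_mul_eq_one_right e.symm]
    exact inv_mem hq'
  have h2 : d ^ 2 ^ m = 1 := by
    have : d ^ 2 ^ m ∈ Q ⊓ MulAction.stabilizer G (t • a) := ⟨h1, pow_mem hd.2 _⟩
    rwa [hs.inf_eq_bot, mem_bot] at this
  rw [eq_one_of_odd ⟨m, h2⟩ (odd_orderOf_of_mem hs.odd_card hd), mul_one]
  exact hq

/-- The rank one setup of a strongly embedded subgroup in a core-free group. -/
theorem exists_good (hO : Cfsg.oddCore G = ⊥) {M : Subgroup G} (hM : Cfsg.IsStronglyEmbedded M)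
    (h2 : BenderSuzuki.TwoRank G) :
    ∃ (t : G) (Q : Subgroup G), BenderSuzuki.Hyp G (G ⧸ M) ((1 : G) : G ⧸ M) t Q ∧
      BenderSuzuki.Good G (G ⧸ M) ((1 : G) : G ⧸ M) t Q :=
  BenderConsumers23.good BenderOne.propPartOneFinal BenderSuzuki.propMain hM h2
    (le_bot_iff.1 ((BenderConsumers23.normalCore_le_oddCore hM).trans hO.le))

/-- An abelian Sylow `2`-subgroup of a core-free group with a strongly embedded subgroup is
elementary. -/
theorem sq_eq_one_of_stronglyEmbedded (hO : Cfsg.oddCore G = ⊥) {M : Subgroup G}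
    (hM : Cfsg.IsStronglyEmbedded M) (h2 : BenderSuzuki.TwoRank G) (S : Sylow 2 G)
    (hab : ∀ a ∈ (S : Subgroup G), ∀ b ∈ (S : Subgroup G), a * b = b * a) :
    ∀ s ∈ (S : Subgroup G), s * s = 1 := by
  classical
  haveI : Fact (Nat.Prime 2) := ⟨Nat.prime_two⟩
  obtain ⟨t, Q, hyp, hgood⟩ := exists_good hO hM h2
  set a : G ⧸ M := ((1 : G) : G ⧸ M) with ha
  have hfix : ∀ y : G, y • a = a ↔ y ∈ M := fun y => by
    rw [ha, Involutions.StronglyEmbedded.smul_coset_eq_iff]; simp
  obtain ⟨T, hT⟩ := hgood.1.exists_le_sylow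
  obtain ⟨g, hg⟩ := MulAction.exists_smul_eq G S T
  have hQab : IsMulCommutative Q := ⟨⟨fun x y => Subtype.ext (by
    have hx := hT x.2
    have hy := hT y.2
    rw [← hg, Sylow.coe_subgroup_smul, Subgroup.mem_smul_pointwise_iff_exists] at hx hy
    obtain ⟨x', hx', ex⟩ := hx
    obtain ⟨y', hy', ey⟩ := hy
    show (x : G) * y = y * x
    rw [← ex, ← ey, ← smul_mul', hab x' hx' y' hy', smul_mul'])⟩⟩
  have hcard := BenderSuzuki.Abelian.Main.propAbelian G (G ⧸ M) a t Q hyp hgood.1 hQab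
  -- every non-trivial element of `Q` is an involution
  have hsub : BenderSuzuki.invs G a ⊆ ((Q : Set G) \ {1}) := fun y hy =>
    ⟨mem_Q_of_twoElt hyp.setup ⟨1, by rw [pow_one, pow_two]; exact hy.2.2⟩ hy.1, hy.2.1⟩
  have hQinv : ∀ q ∈ Q, q * q = 1 := by
    intro q hq
    by_cases hq1 : q = 1
    · rw [hq1, one_mul]
    have h1 : ((Q : Set G) \ {1}).ncard = Nat.card Q - 1 := by
      rw [Set.ncard_sdiff_singleton_of_mem (one_mem Q), ← Nat.card_coe_set_eq]
      rfl
    have heq : BenderSuzuki.invs G a = ((Q : Set G) \ {1}) := by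
      refine Set.eq_of_subset_of_ncard_le hsub ?_ (Set.toFinite _)
      rw [h1, hcard, BenderSuzuki.qNum, Nat.card_coe_set_eq]
      omega
    exact ((heq.symm ▸ (⟨hq, hq1⟩ : q ∈ ((Q : Set G) \ {1}))) : q ∈ BenderSuzuki.invs G a).2.2
  obtain ⟨P, hP⟩ := Involutions.StronglyEmbedded.exists_sylow_le hM
  intro s hs
  obtain ⟨h, hh⟩ := MulAction.exists_smul_eq G S P
  have h3 : h * s * h⁻¹ ∈ (P : Subgroup G) := by
    rw [← hh, Sylow.coe_subgroup_smul]
    exact Subgroup.smul_mem_pointwise_smul (a := MulAut.conj h) s (S : Subgroup G) hs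
  have h4 := hQinv _ (mem_Q_of_twoElt hyp.setup (twoElt_of_mem P.2 h3) ((hfix _).2 (hP h3)))
  rw [show h * s * h⁻¹ * (h * s * h⁻¹) = h * (s * s) * h⁻¹ by group] at h4
  exact conj_eq_one_iff.1 h4

/-- Some odd power of an element normalising an abelian Sylow subgroup centralises it. -/
theorem exists_odd_pow (P : Sylow 2 G)
    (hab : ∀ a ∈ (P : Subgroup G), ∀ b ∈ (P : Subgroup G), a * b = b * a) :
    Odd (Nat.card ((P : Subgroup G).normalizerMonoidHom).range) := by
  haveI : Fact (Nat.Prime 2) := ⟨Nat.prime_two⟩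
  set N := normalizer ((P : Subgroup G) : Set G)
  rw [← Subgroup.index_ker]
  have hle : (P : Subgroup G).subgroupOf N ≤ ((P : Subgroup G).normalizerMonoidHom).ker := by
    intro p hp
    refine MonoidHom.mem_ker.2 (MulEquiv.ext fun q => Subtype.ext ?_)
    show (p : G) * q * (p : G)⁻¹ = q
    rw [hab _ (mem_subgroupOf.1 hp) _ q.2, mul_inv_cancel_right]
  refine Odd.of_dvd_nat ?_ (Subgroup.index_dvd_of_le hle)
  refine Nat.odd_iff.2 (Nat.two_dvd_ne_zero.1 ?_)
  have := (P.subtype (le_normalizer : (P : Subgroup G) ≤ N)).not_dvd_index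
  rw [Sylow.coe_subtype] at this
  exact this

theorem pow_mem_centralizer (P : Sylow 2 G) {n : G}
    (hn : n ∈ normalizer ((P : Subgroup G) : Set G)) :
    n ^ Nat.card ((P : Subgroup G).normalizerMonoidHom).range ∈
      centralizer ((P : Subgroup G) : Set G) := by
  refine mem_centralizer_iff.2 fun p hp => ?_
  have h := congrArg Subtype.val (pow_card_eq_one'
    (x := (⟨_, ⟨⟨n, hn⟩, rfl⟩⟩ : ((P : Subgroup G).normalizerMonoidHom).range)))
  rw [SubgroupClass.coe_pow, ← map_pow] at h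
  have h1 := congrArg (fun e : MulAut (P : Subgroup G) => ((e ⟨p, hp⟩ : (P : Subgroup G)) : G)) h
  simp only [OneMemClass.coe_one, MulAut.one_apply] at h1
  exact (mul_inv_eq_iff_eq_mul.1 h1).symm

/-- In the derived group an involution which is a square in an abelian Sylow subgroup is still a
square; a central involution is not in it. -/
theorem derived_facts (P : Sylow 2 G)
    (hab : ∀ a ∈ (P : Subgroup G), ∀ b ∈ (P : Subgroup G), a * b = b * a) {b : G}
    (hbP : b ∈ (P : Subgroup G)) (hbG : b ∈ commutator G) (hb2 : b * b = 1) :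
    ((∀ g : G, g * b = b * g) → b = 1) ∧
      ∀ y ∈ (P : Subgroup G), y * y = b →
        ∃ q ∈ (P : Subgroup G), q ∈ commutator G ∧ q * q = b := by
  classical
  haveI : Fact (Nat.Prime 2) := ⟨Nat.prime_two⟩
  set P' := (P : Subgroup G)
  letI : CommGroup P' := { (inferInstance : Group P') with
    mul_comm := fun x y => Subtype.ext (hab _ x.2 _ y.2) }
  have hm := exists_odd_pow P hab
  set D := (P'.normalizerMonoidHom).range with hD
  haveI : Finite D := Finite.of_surjective _ (MonoidHom.rangeRestrict_surjective _)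
  letI : Fintype D := Fintype.ofFinite D
  let e : P' →* P' :=
    { toFun := fun p => ∏ d : D, (d : MulAut P') p
      map_one' := by simp
      map_mul' := fun p q => by simp [Finset.prod_mul_distrib] }
  have he : ∀ (d : D) (p : P'), e ((d : MulAut P') p) = e p := fun d p =>
    Fintype.prod_equiv (Equiv.mulRight d) _ _ fun c => rfl
  -- `e` kills the derived group
  have hker : ∀ z : P', (z : G) ∈ commutator G → e z = 1 := by
    intro z hz
    have hz' : (z : G) ∈ (e.ker.map P'.subtype) := by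
      have hf : (z : G) ∈ P'.focalSubgroup := by
        rw [← Subgroup.commutator_inf_eq_focalSubgroup]
        exact ⟨hz, z.2⟩
      rw [Subgroup.focalSubgroup_def] at hf
      refine (Subgroup.closure_le _).2 ?_ hf
      rintro w ⟨hwP, x, hxP, u, rfl⟩
      have h1 : u * x * u⁻¹ ∈ P' := by
        have : u * x * u⁻¹ = (x⁻¹ * ⁅x, u⁆)⁻¹ := by rw [commutatorElement_def]; group
        rw [this]
        exact inv_mem (mul_mem (inv_mem hxP) hwP)
      obtain ⟨v, hv, hvx⟩ :=
        Transfer.Fusion.controls_of_isMulCommutative P ⟨⟨mul_comm⟩⟩ x hxP u h1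
      have h2 : (⟨⁅x, u⁆, hwP⟩ : P') =
          ⟨x, hxP⟩ * ((P'.normalizerMonoidHom ⟨v, hv⟩) ⟨x, hxP⟩)⁻¹ := by
        refine Subtype.ext ?_
        show ⁅x, u⁆ = x * (v * x * v⁻¹)⁻¹
        rw [hvx, commutatorElement_def]; group
      refine ⟨⟨⁅x, u⁆, hwP⟩, ?_, rfl⟩
      show e _ = 1
      rw [h2, map_mul, map_inv, he ⟨_, ⟨_, rfl⟩⟩, mul_inv_cancel]
    obtain ⟨z', hz', hzz⟩ := hz'
    rwa [← Subtype.ext hzz]
  have hpow : ∀ p : P', ((p ^ Nat.card D * (e p)⁻¹ : P') : G) ∈ commutator G := by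
    intro p
    have heq : p ^ Nat.card D * (e p)⁻¹ = ∏ d : D, p * ((d : MulAut P') p)⁻¹ := by
      rw [Finset.prod_mul_distrib, Finset.prod_const, Finset.card_univ, Finset.prod_inv_distrib,
        ← Nat.card_eq_fintype_card]
      rfl
    rw [heq]
    refine Finset.prod_induction _ (fun w : P' => (w : G) ∈ commutator G)
      (fun a b ha hb => mul_mem ha hb) (one_mem _) fun d _ => ?_
    obtain ⟨d', ⟨⟨n, hn⟩, hd'⟩⟩ := d
    subst hd'
    show (p : G) * (n * p * n⁻¹)⁻¹ ∈ commutator G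
    rw [show (p : G) * (n * p * n⁻¹)⁻¹ = ⁅(p : G), n⁆ by rw [commutatorElement_def]; group]
    exact Subgroup.commutator_mem_commutator (mem_top _) (mem_top _)
  have hb1 : e ⟨b, hbP⟩ = 1 := hker _ hbG
  have hbm : (⟨b, hbP⟩ : P') ^ Nat.card D = ⟨b, hbP⟩ := by
    obtain ⟨k, hk⟩ := hm
    rw [hk, pow_succ, pow_mul, pow_two]
    have : (⟨b, hbP⟩ : P') * ⟨b, hbP⟩ = 1 := Subtype.ext hb2
    rw [this, one_pow, one_mul]
  refine ⟨fun hc => ?_, fun y hy hyb => ?_⟩
  · have h : e ⟨b, hbP⟩ = (⟨b, hbP⟩ : P') ^ Nat.card D := by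
      show ∏ d : D, (d : MulAut P') ⟨b, hbP⟩ = _
      rw [Finset.prod_congr rfl (g := fun _ => (⟨b, hbP⟩ : P')) fun d _ => ?_,
        Finset.prod_const, Finset.card_univ, Nat.card_eq_fintype_card]
      obtain ⟨d', ⟨⟨n, hn⟩, hd'⟩⟩ := d
      subst hd'
      refine Subtype.ext ?_
      show n * b * n⁻¹ = b
      rw [hc n, mul_inv_cancel_right]
    rw [hb1, hbm] at h
    exact (congrArg Subtype.val h).symm
  · set Y : P' := ⟨y, hy⟩
    refine ⟨((Y ^ Nat.card D * (e Y)⁻¹ : P') : G), SetLike.coe_mem _, hpow Y, ?_⟩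
    have hY : Y * Y = ⟨b, hbP⟩ := Subtype.ext hyb
    have : Y ^ Nat.card D * (e Y)⁻¹ * (Y ^ Nat.card D * (e Y)⁻¹) = (⟨b, hbP⟩ : P') := by
      rw [mul_mul_mul_comm, ← mul_pow, ← mul_inv_rev, ← map_mul, hY, hb1, hbm, inv_one, mul_one]
    exact congrArg Subtype.val this

/-- A `2`-closed subgroup normal in `G` and containing a Sylow subgroup of a core-free `G`. -/
theorem sylow_normal_of_normal (hO : Cfsg.oddCore G = ⊥) (S : Sylow 2 G) (C : Subgroup G)
    [hC : C.Normal] (hSC : (S : Subgroup G) ≤ C) (hcl : TwoClosed C) :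
    (S : Subgroup G).Normal := by
  haveI : Fact (Nat.Prime 2) := ⟨Nat.prime_two⟩
  have hOC : Cfsg.oddCore C = ⊥ := by
    haveI : ((Cfsg.oddCore C).map C.subtype).Normal := by
      haveI : (Cfsg.oddCore C).Characteristic := Subgroup.characteristic_iff_map_eq.2 fun φ =>
        Cores.map_pPrimeCore_equiv φ
      exact Cores.normal_map_subtype C _
    have h := le_oddCore' (N := (Cfsg.oddCore C).map C.subtype)
      (by rw [card_map_of_injective C.subtype_injective]; exact oddCore_odd')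
    rw [hO, le_bot_iff, map_eq_bot_iff_of_injective _ C.subtype_injective] at h
    exact h
  refine ⟨fun s hs g => ?_⟩
  have h1 : g * s * g⁻¹ ∈ C := hC.conj_mem s (hSC hs) g
  obtain ⟨m, hm⟩ := (twoElt_of_mem S.2 hs).conj g
  have := hcl.mem_sylow hOC (S.subtype hSC) (x := ⟨_, h1⟩) ⟨m, Subtype.ext hm⟩
  rwa [Sylow.coe_subtype, mem_subgroupOf] at this

/-- Burnside: with a normal `2`-complement the group is `2`-closed. -/
theorem twoClosed_of_burnside (P : Sylow 2 G)
    (h : normalizer ((P : Subgroup G) : Set G) ≤ centralizer ((P : Subgroup G) : Set G)) :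
    TwoClosed G := by
  haveI : Fact (Nat.Prime 2) := ⟨Nat.prime_two⟩
  set L := (MonoidHom.transferSylow P h).ker
  have hodd : Odd (Nat.card L) :=
    Nat.odd_iff.2 (Nat.two_dvd_ne_zero.1 (MonoidHom.not_dvd_card_ker_transferSylow P h))
  have hd : (Cfsg.oddCore G).index ∣ L.index := index_dvd_of_le (le_oddCore' hodd)
  obtain ⟨k, hk⟩ := IsPGroup.iff_card.1 P.2
  rw [(MonoidHom.ker_transferSylow_isComplement' P h).symm.index_eq_card, hk] at hd
  obtain ⟨i, -, hi⟩ := (Nat.dvd_prime_pow Nat.prime_two).1 hd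
  exact twoClosed_of_index hi

/-- The hypothesis: an abelian Sylow subgroup of exponent four with involutions squares. -/
structure Four (S : Sylow 2 G) : Prop where
  comm : ∀ a ∈ (S : Subgroup G), ∀ b ∈ (S : Subgroup G), a * b = b * a
  exp : ∀ a ∈ (S : Subgroup G), a * a * (a * a) = 1
  root : ∀ b ∈ (S : Subgroup G), b * b = 1 → ∃ a ∈ (S : Subgroup G), a * a = b
  closed : ∀ b ∈ (S : Subgroup G), orderOf b = 2 → TwoClosed ↥(centralizer ({b} : Set G))

/-- The involutions and `1` of an abelian group. -/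
def omega {S : Subgroup G} (hab : ∀ a ∈ S, ∀ b ∈ S, a * b = b * a) : Subgroup G where
  carrier := {x | x ∈ S ∧ x * x = 1}
  one_mem' := ⟨one_mem _, one_mul _⟩
  mul_mem' := fun {a b} ha hb => ⟨mul_mem ha.1 hb.1, by
    rw [show a * b * (a * b) = a * (b * a) * b by group, hab b hb.1 a ha.1,
      show a * (a * b) * b = a * a * (b * b) by group, ha.2, hb.2, one_mul]⟩
  inv_mem' := fun {a} ha => ⟨inv_mem ha.1, by rw [← mul_inv_rev, ha.2, inv_one]⟩

theorem omega_le {S : Subgroup G} (hab : ∀ a ∈ S, ∀ b ∈ S, a * b = b * a) : omega hab ≤ S :=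
  fun _ h => h.1

theorem omega_elementary {S : Subgroup G} (hab : ∀ a ∈ S, ∀ b ∈ S, a * b = b * a) :
    Cfsg.IsElementaryAbelian 2 (omega hab) :=
  PGroups.elemAb_mk (fun a ha b hb => hab a ha.1 b hb.1) fun a ha => by rw [pow_two]; exact ha.2

theorem Four.brauer (S : Sylow 2 G) (h : Four S) (hO : Cfsg.oddCore G = ⊥)
    (h4 : Nat.card (omega h.comm) = 4) : (S : Subgroup G).Normal := by
  classical
  haveI : Fact (Nat.Prime 2) := ⟨Nat.prime_two⟩
  set S' := (S : Subgroup G)
  set A := omega h.comm with hA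
  letI : CommGroup S' := { (inferInstance : Group S') with
    mul_comm := fun x y => Subtype.ext (h.comm _ x.2 _ y.2) }
  let sq : S' →* A :=
    { toFun := fun x => ⟨(x : G) * x, mul_mem x.2 x.2, h.exp _ x.2⟩
      map_one' := Subtype.ext (one_mul _)
      map_mul' := fun x y => Subtype.ext (by
        show (x : G) * y * ((x : G) * y) = (x : G) * x * ((y : G) * y)
        rw [show (x : G) * y * ((x : G) * y) = (x : G) * ((y : G) * x) * y by group,
          h.comm _ y.2 _ x.2]
        group) }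
  have hsurj : Function.Surjective sq := fun b => by
    obtain ⟨a, ha, hab⟩ := h.root b b.2.1 b.2.2
    exact ⟨⟨a, ha⟩, Subtype.ext hab⟩
  have hker : Nat.card sq.ker = 4 := by
    rw [← h4]
    refine Nat.card_congr ⟨fun x => ⟨_, x.1.2, congrArg Subtype.val x.2⟩,
      fun x => ⟨⟨x, x.2.1⟩, Subtype.ext x.2.2⟩, fun _ => rfl, fun _ => rfl⟩
  have hcard : Nat.card S' = 16 := by
    rw [← sq.ker.card_mul_index, Subgroup.index_ker, MonoidHom.range_eq_top.2 hsurj, card_top,
      hker, h4]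
  -- two roots of two involutions
  haveI : Nontrivial A := Finite.one_lt_card_iff_nontrivial.1 (by omega)
  obtain ⟨b₁, hb₁⟩ := exists_ne (1 : A)
  obtain ⟨b₂, hb₂⟩ : ∃ b : A, b ≠ 1 ∧ b ≠ b₁ := by
    by_contra hne
    push Not at hne
    letI := Fintype.ofFinite A
    have : Fintype.card A ≤ ({1, b₁} : Finset A).card := Finset.card_le_card fun x _ => by
      by_cases hx : x = 1
      · simp [hx]
      · simp [hne x hx]
    rw [Finset.card_pair hb₁.symm, ← Nat.card_eq_fintype_card, h4] at this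
    omega
  obtain ⟨y₁, hy₁⟩ := hsurj b₁
  obtain ⟨y₂, hy₂⟩ := hsurj b₂
  have hy4 : ∀ y : S', y ^ 4 = 1 := fun y => Subtype.ext (by
    have := h.exp _ y.2
    show (y : G) ^ 4 = 1
    rw [← this, show (y : G) ^ 4 = y * y * (y * y) by simp [pow_succ, mul_assoc]])
  let f : Multiplicative (ZMod 4 × ZMod 4) →* S' := AddMonoidHom.toMultiplicativeLeft
    ((ZMod.lift 4 ⟨zmultiplesHom (Additive S') (Additive.ofMul y₁), by
        rw [zmultiplesHom_apply, ← ofMul_zpow]
        exact congrArg Additive.ofMul (by exact_mod_cast hy4 y₁)⟩).coprod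
      (ZMod.lift 4 ⟨zmultiplesHom (Additive S') (Additive.ofMul y₂), by
        rw [zmultiplesHom_apply, ← ofMul_zpow]
        exact congrArg Additive.ofMul (by exact_mod_cast hy4 y₂)⟩))
  have hf : ∀ i j : ℕ, f (Multiplicative.ofAdd ((i : ZMod 4), (j : ZMod 4))) = y₁ ^ i * y₂ ^ j := by
    intro i j
    have e : ∀ (y : S') (k : ℕ) (hh), ZMod.lift 4 ⟨zmultiplesHom (Additive S') (Additive.ofMul y), hh⟩
        (k : ZMod 4) = Additive.ofMul (y ^ k) := fun y k hh => by
      rw [show (k : ZMod 4) = ((k : ℤ) : ZMod 4) by push_cast; rfl, ZMod.lift_coe]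
      show (k : ℤ) • Additive.ofMul y = _
      rw [natCast_zsmul, ← ofMul_pow]
    simp [f, AddMonoidHom.toMultiplicativeLeft, e]
  have hinj : Function.Injective f := by
    rw [injective_iff_map_eq_one]
    intro p hp
    obtain ⟨⟨i, j⟩, rfl⟩ := Multiplicative.ofAdd.surjective p
    have hi := i.val_lt
    have hj := j.val_lt
    rw [← ZMod.natCast_zmod_val i, ← ZMod.natCast_zmod_val j, hf] at hp
    have h2 : b₁ ^ i.val * b₂ ^ j.val = 1 := by
      rw [← hy₁, ← hy₂, ← map_pow, ← map_pow, ← map_mul, hp, map_one]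
    have hb1sq : b₁ ^ 2 = 1 := Subtype.ext (by rw [pow_two]; exact b₁.2.2)
    have hb2sq : b₂ ^ 2 = 1 := Subtype.ext (by rw [pow_two]; exact b₂.2.2)
    obtain ⟨i', ri, hri, hieq⟩ : ∃ i' r, r < 2 ∧ i.val = 2 * i' + r :=
      ⟨i.val / 2, i.val % 2, Nat.mod_lt _ (by norm_num), (Nat.div_add_mod _ _).symm⟩
    obtain ⟨j', rj, hrj, hjeq⟩ : ∃ j' r, r < 2 ∧ j.val = 2 * j' + r :=
      ⟨j.val / 2, j.val % 2, Nat.mod_lt _ (by norm_num), (Nat.div_add_mod _ _).symm⟩
    rw [hieq, hjeq, pow_add, pow_add, pow_mul, pow_mul, hb1sq, hb2sq, one_pow, one_pow, one_mul,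
      one_mul] at h2
    interval_cases ri <;> interval_cases rj <;> simp at h2
    · -- both even
      have hii : i' < 2 := by omega
      have hjj : j' < 2 := by omega
      rw [hieq, hjeq, Nat.add_zero, Nat.add_zero, pow_mul, pow_mul] at hp
      have hp' : (b₁ : G) ^ i' * (b₂ : G) ^ j' = 1 := by
        have e1 : ((y₁ : G)) ^ 2 = (b₁ : G) := by rw [pow_two, ← hy₁]; rfl
        have e2 : ((y₂ : G)) ^ 2 = (b₂ : G) := by rw [pow_two, ← hy₂]; rfl
        rw [← e1, ← e2]
        exact_mod_cast congrArg Subtype.val hp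
      have hp'' : b₁ ^ i' * b₂ ^ j' = 1 := Subtype.ext (by exact_mod_cast hp')
      interval_cases i' <;> interval_cases j' <;> simp at hp''
      · rw [← ZMod.natCast_zmod_val i, ← ZMod.natCast_zmod_val j, hieq, hjeq]
        rfl
      · exact absurd hp'' hb₂.1
      · exact absurd hp'' hb₁
      · refine absurd ?_ hb₂.2
        calc b₂ = b₁ * (b₁ * b₂) := by rw [← mul_assoc, ← pow_two, hb1sq, one_mul]
          _ = b₁ := by rw [hp'', mul_one]
    · exact absurd h2 hb₂.1
    · exact absurd h2 hb₁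
    · refine absurd ?_ hb₂.2
      calc b₂ = b₁ * (b₁ * b₂) := by rw [← mul_assoc, ← pow_two, hb1sq, one_mul]
        _ = b₁ := by rw [h2, mul_one]
  have hbij : Function.Bijective f := (Nat.bijective_iff_injective_and_card f).2 ⟨hinj, by
    rw [hcard, Nat.card_congr Multiplicative.toAdd, Nat.card_prod, Nat.card_zmod]⟩
  have e : (S : Subgroup G) ≃* Multiplicative (ZMod (2 ^ 2) × ZMod (2 ^ 2)) :=
    (MulEquiv.ofBijective f hbij).symm
  exact Homocyclic.BrauerTheorem.sylow_normal_aux _ G rfl S 2 le_rfl e fun N hN hodd =>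
    le_bot_iff.1 ((le_oddCore' (N := N) (by exact hodd)).trans hO.le)

/-- The core-free case. -/
theorem Four.twoClosed_of_core (S : Sylow 2 G) (h : Four S) (hO : Cfsg.oddCore G = ⊥) :
    TwoClosed G := by
  classical
  haveI : Fact (Nat.Prime 2) := ⟨Nat.prime_two⟩
  set S' := (S : Subgroup G)
  set A := omega h.comm with hA
  obtain ⟨k, hk⟩ := IsPGroup.iff_card.1 (PGroups.elemAb_isPGroup (omega_elementary h.comm))
  rcases Nat.lt_or_ge (Nat.card A) 4 with h4 | h4
  · -- at most one involution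
    refine twoClosed_of_burnside S fun n hn => ?_
    refine Homocyclic.TwoTwo.mem_centralizer_of_fixes_involutions S' S.2 h.comm n _
      (exists_odd_pow S h.comm) (pow_mem_centralizer S hn) hn fun z hz hz2 => ?_
    have hzA : z ∈ A := ⟨hz, Involutions.Basic.invol_mul_self hz2⟩
    have hnzA : n * z * n⁻¹ ∈ A := ⟨(mem_normalizer_iff.1 hn z).1 hz,
      Involutions.Basic.invol_mul_self ((Involutions.Basic.orderOf_conj_eq n z).trans hz2)⟩
    by_contra hne
    have h3 : ({1, z, n * z * n⁻¹} : Set G).ncard ≤ (A : Set G).ncard :=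
      Set.ncard_le_ncard (by
        rintro x (rfl | rfl | rfl)
        · exact one_mem _
        · exact hzA
        · exact hnzA) (Set.toFinite _)
    have hz1 : z ≠ 1 := Involutions.Basic.invol_ne_one hz2
    rw [Set.ncard_eq_three.2 ⟨1, z, n * z * n⁻¹, hz1.symm,
      fun e => hz1 (conj_eq_one_iff.1 e.symm), fun e => hne e.symm, rfl⟩,
      ← Nat.card_coe_set_eq] at h3
    have hAc : Nat.card A = 2 ^ k := hk
    rw [show Nat.card ↥(A : Set G) = Nat.card A from rfl, hAc] at h3
    rw [hAc] at h4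
    rcases k with _ | _ | k
    · omega
    · omega
    · have : 4 ≤ 2 ^ (k + 2) := by rw [pow_add]; exact Nat.le_mul_of_pos_left 4 (by positivity)
      omega
  rcases Nat.lt_or_ge (Nat.card A) 8 with h8 | h8
  · have hAc : Nat.card A = 4 := by
      rw [hk] at h4 h8 ⊢
      rcases k with _ | _ | _ | k <;> simp at h4 h8 ⊢
      have : 8 ≤ 2 ^ (k + 3) := by rw [pow_add]; exact Nat.le_mul_of_pos_left 8 (by positivity)
      omega
    exact twoClosed_of_normal S (h.brauer S hO hAc)
  have hAS : A ≤ S' := omega_le h.comm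
  have hAc' : ¬ IsCyclic A := fun hc => by
    obtain ⟨g, hg⟩ := hc.exists_generator
    have h1 : Nat.card A = orderOf g := by
      rw [← Nat.card_zpowers, (eq_top_iff' (zpowers g)).2 hg, card_top]
    have h2 : orderOf g ≤ 2 := Nat.le_of_dvd two_pos
      (orderOf_dvd_of_pow_eq_one (Subtype.ext (by rw [pow_two]; exact g.2.2)))
    omega
  have hNS : normalizer (S' : Set G) ≤ normalizer (A : Set G) := by
    intro n hn
    refine mem_normalizer_iff.2 fun x => ?_
    show x ∈ S' ∧ x * x = 1 ↔ n * x * n⁻¹ ∈ S' ∧ n * x * n⁻¹ * (n * x * n⁻¹) = 1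
    rw [← mem_normalizer_iff.1 hn x, show n * x * n⁻¹ * (n * x * n⁻¹) = n * (x * x) * n⁻¹ by group,
      conj_eq_one_iff]
  rcases normal_or_stronglyEmbedded S A hAS hO (omega_elementary h.comm) hAc' hNS h.closed
    (fun v hv hv2 => ⟨A, omega_elementary h.comm, h8, le_rfl,
      ⟨hv, Involutions.Basic.invol_mul_self hv2⟩, hAS⟩)
    (fun v hv hv2 => centralizer_le_sup (h.closed v hv hv2) S.2
      (fun x hx => mem_centralizer_singleton_iff.2 (h.comm x hx v hv)) fun T hT hST _ => by
        rw [S.3 hT hST]; exact hNS) with hn | ⟨M, hM⟩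
  · haveI := hn
    haveI : Nontrivial A := Finite.one_lt_card_iff_nontrivial.1 (by omega)
    obtain ⟨b, hb⟩ := exists_ne (1 : A)
    have hb2 : orderOf (b : G) = 2 := orderOf_eq_prime (by rw [pow_two]; exact b.2.2)
      fun e => hb (Subtype.ext e)
    refine twoClosed_of_normal S (sylow_normal_of_normal hO S (centralizer (A : Set G))
      (fun x hx => mem_centralizer_iff.2 fun a ha => h.comm a ha.1 x hx) ?_)
    exact (h.closed b b.2.1 hb2).mono (centralizer_le (Set.singleton_subset_iff.2 b.2))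
  · -- a strongly embedded subgroup forces exponent two
    haveI : Nontrivial A := Finite.one_lt_card_iff_nontrivial.1 (by omega)
    obtain ⟨b, hb⟩ := exists_ne (1 : A)
    obtain ⟨c, hc, hcb⟩ : ∃ c : A, c ≠ 1 ∧ c ≠ b := by
      by_contra hne
      push Not at hne
      letI := Fintype.ofFinite A
      have : Fintype.card A ≤ ({1, b} : Finset A).card := Finset.card_le_card fun x _ => by
        by_cases hx : x = 1
        · simp [hx]
        · simp [hne x hx]
      rw [Finset.card_pair hb.symm, ← Nat.card_eq_fintype_card] at this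
      omega
    have hsq := sq_eq_one_of_stronglyEmbedded hO hM
      ⟨b, c, fun e => hb (Subtype.ext e), fun e => hc (Subtype.ext e),
        fun e => hcb (Subtype.ext e.symm), b.2.2, c.2.2, h.comm _ b.2.1 _ c.2.1⟩ S h.comm
    obtain ⟨a, ha, hab⟩ := h.root b b.2.1 b.2.2
    exact absurd (Subtype.ext (hab.symm.trans (hsq a ha))) hb

/-- Every involution a square in an abelian Sylow subgroup, centralisers closed: the group is
closed. -/
theorem Four.twoClosed (S : Sylow 2 G) (h : Four S) : TwoClosed G := by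
  haveI : Fact (Nat.Prime 2) := ⟨Nat.prime_two⟩
  set π := QuotientGroup.mk' (Cfsg.oddCore G) with hπ
  have hsurj : Function.Surjective π := QuotientGroup.mk'_surjective _
  refine twoClosed_of_odd_quotient _ oddCore_odd'
    (Four.twoClosed_of_core (S.mapSurjective hsurj) ⟨?_, ?_, ?_, ?_⟩
      (Cores.pPrimeCore_quotient_pPrimeCore 2))
  · rw [Sylow.coe_mapSurjective]
    rintro _ ⟨a, ha, rfl⟩ _ ⟨b, hb, rfl⟩
    rw [← map_mul, ← map_mul, h.comm a ha b hb]
  · rw [Sylow.coe_mapSurjective]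
    rintro _ ⟨a, ha, rfl⟩
    rw [← map_mul, ← map_mul, h.exp a ha, map_one]
  all_goals
    rw [Sylow.coe_mapSurjective]
    rintro _ ⟨b, hb, rfl⟩ hb2
  · have hbb : b * b = 1 := eq_one_of_odd (twoElt_of_mem S.2 (mul_mem hb hb))
      (odd_orderOf_of_mem oddCore_odd' ((QuotientGroup.eq_one_iff _).1 (by
        show π (b * b) = 1
        rw [map_mul]; exact hb2)))
    obtain ⟨a, ha, hab⟩ := h.root b hb hbb
    exact ⟨π a, ⟨a, ha, rfl⟩, by rw [← map_mul, hab]⟩
  · have hbb : b * b = 1 := eq_one_of_odd (twoElt_of_mem S.2 (mul_mem hb hb))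
      (odd_orderOf_of_mem oddCore_odd' ((QuotientGroup.eq_one_iff _).1 (by
        show π (b * b) = 1
        rw [map_mul, ← pow_two]; exact orderOf_dvd_iff_pow_eq_one.1 hb2.dvd)))
    have hb1 : b ≠ 1 := fun e => by
      rw [e, map_one, orderOf_one] at hb2
      omega
    have hob : orderOf b = 2 := orderOf_eq_prime (by rw [pow_two]; exact hbb) hb1
    refine ((h.closed b hb hob).map (f := π.subgroupMap _) (π.subgroupMap_surjective _)).of_equiv
      (MulEquiv.subgroupCongr ?_)
    exact SolvCentAb12.map_centralizer_invol (Cfsg.oddCore G) oddCore_odd' hob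

end Cfsg.Agent.Lib.U3Type59
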