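import Cfsg.Agent.Lib.U3Type59.Closed
import Cfsg.Agent.Lib.Signalizer.Complete
import Cfsg.Agent.Lib.Balance.Basic
import Cfsg.Agent.Lib.Coprime.Generation
import Cfsg.Agent.Lib.Involutions.StronglyEmbedded
import Cfsg.Agent.Lib.PGroups.ElemAb
import Cfsg.Agent.Lib.PGroups.Omega
import Cfsg.Agent.Lib.OddOrder.FeitThompson

/-!
# A strongly embedded subgroup from `2`-closed involution centralisers

The odd cores of the centralisers form a complete signalizer functor on every elementary abelian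
subgroup of order at least eight, and the normaliser of its closure controls everything.
-/

set_option autoImplicit false
set_option linter.style.haveILetI false
set_option linter.unusedSectionVars false

namespace Cfsg.Agent.Lib.U3Type59

open Subgroup

universe u

variable {G : Type u} [Group G] [Finite G]

local notation "θ" => Cfsg.centralizerPPrimeCore 2

theorem oddCore_map_centralizer (v : G) :
    (Cfsg.oddCore ↥(centralizer ({v} : Set G))).map (centralizer ({v} : Set G)).subtype = θ v :=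
  rfl

/-- A criterion for strong embedding. -/
theorem of_centralizers (S : Sylow 2 G) {M : Subgroup G} (hM : M ≠ ⊤)
    (hS1 : (S : Subgroup G) ≠ ⊥)
    (hN : normalizer ((S : Subgroup G) : Set G) ≤ M)
    (hC : ∀ v ∈ (S : Subgroup G), orderOf v = 2 → centralizer ({v} : Set G) ≤ M) :
    Cfsg.IsStronglyEmbedded M := by
  haveI : Fact (Nat.Prime 2) := ⟨Nat.prime_two⟩
  have hSM : (S : Subgroup G) ≤ M := le_normalizer.trans hN
  have hSmap : (S.subtype hSM : Subgroup M).map M.subtype = (S : Subgroup G) := by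
    rw [Sylow.coe_subtype, subgroupOf_map_subtype, inf_of_le_left hSM]
  have hconj : ∀ W : Subgroup G, IsPGroup 2 W → W ≤ M →
      ∃ h ∈ M, W.map (MulAut.conj h).toMonoidHom ≤ (S : Subgroup G) := fun W hW hWM => by
    obtain ⟨h, hh, hle⟩ := Involutions.StronglyEmbedded.exists_conj_le_sylow (S.subtype hSM) hW hWM
    exact ⟨h, hh, hle.trans hSmap.le⟩
  have hCM : ∀ t ∈ M, orderOf t = 2 → centralizer ({t} : Set G) ≤ M := by
    intro t htM ht
    obtain ⟨h, hh, hle⟩ := hconj (zpowers t)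
      (IsPGroup.of_card (n := 1) (by rw [Nat.card_zpowers, ht, pow_one])) (zpowers_le.2 htM)
    have h1 := hC _ (hle (mem_map_of_mem _ (mem_zpowers t)))
      (((MulAut.conj h).orderOf_eq t).trans ht)
    intro c hc
    have h2 : h * c * h⁻¹ ∈ M := h1 (mem_centralizer_singleton_iff.2 (by
      show h * c * h⁻¹ * (h * t * h⁻¹) = h * t * h⁻¹ * (h * c * h⁻¹)
      rw [show h * c * h⁻¹ * (h * t * h⁻¹) = h * (c * t) * h⁻¹ by group,
        mem_centralizer_singleton_iff.1 hc]
      group))
    simpa [mul_assoc] using mul_mem (mul_mem (inv_mem hh) h2) hh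
  obtain ⟨k, hk⟩ := IsPGroup.iff_card.1 S.2
  refine ⟨hM, even_iff_two_dvd.2 (dvd_trans ?_ (card_dvd_of_le hSM)), fun g hg => ?_⟩
  · rw [hk]
    refine dvd_pow_self 2 fun h => hS1 (Subgroup.card_eq_one.1 ?_)
    rw [hk, h, pow_zero]
  rw [← Nat.not_even_iff_odd]
  intro hev
  set D : Subgroup G := M ⊓ M.map (MulAut.conj g).toMonoidHom with hD
  obtain ⟨P⟩ := (inferInstance : Nonempty (Sylow 2 D))
  set R : Subgroup G := (P : Subgroup D).map D.subtype with hR
  have hRp : IsPGroup 2 R := P.2.map _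
  have hRD : R ≤ D := map_subtype_le _
  have hR1 : R ≠ ⊥ := by
    intro h
    have h1 : (P : Subgroup D) = ⊥ :=
      (map_eq_bot_iff_of_injective _ D.subtype_injective).1 h
    have h2 := P.dvd_card_of_dvd_card (even_iff_two_dvd.1 hev)
    rw [h1, card_bot] at h2
    omega
  have hmax : ∀ U : Subgroup G, IsPGroup 2 U → R ≤ U → U ≤ D → U = R := by
    intro U hU hRU hUD
    have := P.3 (hU.comap_of_injective D.subtype D.subtype_injective) (map_le_iff_le_comap.1 hRU)
    rw [hR, ← this]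
    exact (Subgroup.map_comap_eq_self (hUD.trans D.range_subtype.ge)).symm
  -- `R` is a Sylow subgroup of `G`
  obtain ⟨U, hRU⟩ := hRp.exists_le_sylow
  have hRU' : R = (U : Subgroup G) := by
    by_contra hne
    haveI := U.2.isNilpotent
    set U1 := (U : Subgroup G) ⊓ normalizer (R : Set G) with hU1
    have hlt : R < U1 := Involutions.StronglyEmbedded.lt_inf_normalizer (lt_of_le_of_ne hRU hne)
    have hU1p : IsPGroup 2 U1 := U.2.to_inf_left
    haveI : (R.subgroupOf U1).Normal :=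
      normal_subgroupOf_of_le_normalizer inf_le_right
    have hne' : R.subgroupOf U1 ⊓ center U1 ≠ ⊥ := by
      refine PGroups.normal_inf_center_ne_bot hU1p _ fun h => hR1 ?_
      rwa [subgroupOf_eq_bot, disjoint_iff, inf_of_le_left hlt.le] at h
    haveI : Nontrivial ↥(R.subgroupOf U1 ⊓ center U1) := (nontrivial_iff_ne_bot _).2 hne'
    obtain ⟨n, hn⟩ := IsPGroup.exists_card_eq (hU1p.to_subgroup (R.subgroupOf U1 ⊓ center U1))
    have hn0 : n ≠ 0 := fun h => by
      have := Finite.one_lt_card (α := ↥(R.subgroupOf U1 ⊓ center U1))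
      rw [hn, h] at this
      exact absurd this (by norm_num)
    obtain ⟨w, hw⟩ := exists_prime_orderOf_dvd_card'
      (G := ↥(R.subgroupOf U1 ⊓ center U1)) 2 (hn ▸ dvd_pow_self 2 hn0)
    set z : G := ((w : U1) : G) with hz
    have hz2 : orderOf z = 2 := by rw [hz, orderOf_coe, orderOf_coe, hw]
    have hzR : z ∈ R := w.2.1
    have hUC : U1 ≤ centralizer ({z} : Set G) := fun x hx =>
      mem_centralizer_singleton_iff.2 (congrArg Subtype.val (mem_center_iff.1 w.2.2 ⟨x, hx⟩))
    obtain ⟨z', hz', hzz'⟩ := (hRD hzR).2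
    have hzz : g * z' * g⁻¹ = z := hzz'
    have hUD : U1 ≤ D := by
      intro x hx
      refine ⟨hCM z (hRD hzR).1 hz2 (hUC hx), g⁻¹ * x * g, hCM z' hz' ?_ ?_, ?_⟩
      · rw [← hz2, ← hzz]
        exact ((MulAut.conj g).orderOf_eq z').symm
      · have h2 := mem_centralizer_singleton_iff.1 (hUC hx)
        rw [← hzz] at h2
        refine mem_centralizer_singleton_iff.2 ?_
        calc g⁻¹ * x * g * z' = g⁻¹ * (x * (g * z' * g⁻¹)) * g := by group
          _ = g⁻¹ * (g * z' * g⁻¹ * x) * g := by rw [h2]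
          _ = z' * (g⁻¹ * x * g) := by group
      · show g * (g⁻¹ * x * g) * g⁻¹ = x
        group
    exact hlt.ne (hmax U1 hU1p hlt.le hUD).symm
  -- Sylow subgroups of `M` are conjugate in `M`
  have hcard : ∀ W : Subgroup G, Nat.card W = Nat.card (U : Subgroup G) →
      W ≤ (S : Subgroup G) → W = (S : Subgroup G) := fun W h hle => eq_of_le_of_card_ge hle (by
    rw [h, Sylow.card_eq_multiplicity, Sylow.card_eq_multiplicity])
  obtain ⟨a, ha, hae⟩ := hconj R hRp (hRD.trans inf_le_left)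
  have hcR : Nat.card R = Nat.card (U : Subgroup G) := by rw [hRU']
  have e1 := hcard _ ((card_map_of_injective (MulEquiv.injective _)).trans hcR) hae
  set R' := R.map (MulAut.conj g⁻¹).toMonoidHom with hR'
  have hR'M : R' ≤ M := by
    rintro _ ⟨r, hr, rfl⟩
    obtain ⟨r', hr', rfl⟩ := (hRD hr).2
    show g⁻¹ * (g * r' * g⁻¹) * g⁻¹⁻¹ ∈ M
    simpa [mul_assoc] using hr'
  obtain ⟨b, hb, hbe⟩ := hconj R' (hRp.map _) hR'M
  have e2 := hcard _ ((card_map_of_injective (MulEquiv.injective _)).trans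
    ((card_map_of_injective (MulEquiv.injective _)).trans hcR)) hbe
  have hn : b * g⁻¹ * a⁻¹ ∈ normalizer ((S : Subgroup G) : Set G) := by
    rw [mem_normalizer_iff_map_conj_eq]
    conv_lhs => rw [← e1]
    rw [← e2]
    have key : ∀ (K : Subgroup G) (x y : G), (K.map (MulAut.conj x).toMonoidHom).map
        (MulAut.conj y).toMonoidHom = K.map (MulAut.conj (y * x)).toMonoidHom := fun K x y => by
      rw [map_map]
      exact congrArg (fun f : G →* G => K.map f) (MonoidHom.ext fun z => by simp [mul_assoc])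
    exact (key R a _).trans ((key R g⁻¹ b).trans (by rw [inv_mul_cancel_right])).symm
  refine hg ?_
  simpa [mul_assoc] using mul_mem (mul_mem (inv_mem ha) (inv_mem (hN hn))) hb

/-- The core functor on an elementary abelian group with `2`-closed centralisers. -/
theorem functor {E : Subgroup G} (hE : Cfsg.IsElementaryAbelian 2 E)
    (hcl : ∀ e ∈ E, e ≠ 1 → TwoClosed ↥(centralizer ({e} : Set G))) :
    Cfsg.IsSolvableSignalizerFunctor 2 E (Cfsg.centralizerPPrimeCore 2) := by
  haveI : Fact (Nat.Prime 2) := ⟨Nat.prime_two⟩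
  refine ⟨⟨fun a _ _ => Balance.centralizerPPrimeCore_le a,
    fun a _ _ => Balance.not_dvd_card_centralizerPPrimeCore a, ?_, ?_⟩, fun a _ _ =>
    OddOrder.FeitThompson.isSolvable_of_odd_card (Nat.odd_iff.2 (by
      have := Balance.not_dvd_card_centralizerPPrimeCore (p := 2) a
      omega))⟩
  · intro a ha _ b hb x hx
    exact (mem_normalizer_iff.1 (Balance.centralizer_le_normalizer_centralizerPPrimeCore a
      (mem_centralizer_singleton_iff.2 (PGroups.elemAb_comm hE hb ha))) x).1 hx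
  · intro a ha ha1 b hb hb1
    set C := centralizer ({b} : Set G) with hC
    have hab : a ∈ C := mem_centralizer_singleton_iff.2 (PGroups.elemAb_comm hE ha hb)
    set Y : Subgroup C := (θ a ⊓ C).subgroupOf C with hY
    have hodd : Odd (Nat.card Y) := by
      rw [hY, Nat.card_congr (subgroupOfEquivOfLe (inf_le_right : θ a ⊓ C ≤ C)).toEquiv]
      refine Odd.of_dvd_nat ?_ (card_dvd_of_le inf_le_left)
      have := Balance.not_dvd_card_centralizerPPrimeCore (p := 2) a
      exact Nat.odd_iff.2 (by omega)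
    have hle : Y ≤ Cfsg.oddCore C := by
      refine (hcl b hb hb1).le_oddCore_of_invariant (t := (⟨a, hab⟩ : C)) ?_ Y hodd ?_ ?_
      · rw [orderOf_mk]
        exact orderOf_eq_prime (PGroups.elemAb_pow hE ha) ha1
      · intro y hy
        exact Subtype.ext
          (mem_centralizer_singleton_iff.1 (Balance.centralizerPPrimeCore_le a hy.1))
      · intro c hc y hy
        refine ⟨(mem_normalizer_iff.1 (Balance.centralizer_le_normalizer_centralizerPPrimeCore a
          (mem_centralizer_singleton_iff.2 (congrArg Subtype.val hc))) _).1 hy.1, ?_⟩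
        exact (c * y * c⁻¹).2
    intro x hx
    exact ⟨⟨x, hx.2⟩, hle (show (⟨x, hx.2⟩ : C) ∈ Y from hx), rfl⟩

/-- The closure of the functor is odd and generated by a noncyclic subgroup. -/
theorem closure_facts {E B : Subgroup G} (hE : Cfsg.IsElementaryAbelian 2 E)
    (h8 : 8 ≤ Nat.card E) (hBE : B ≤ E) (hBc : ¬ IsCyclic B)
    (hcl : ∀ e ∈ E, e ≠ 1 → TwoClosed ↥(centralizer ({e} : Set G))) :
    Odd (Nat.card ↥(⨆ b : {b : G // b ∈ B ∧ b ≠ 1}, θ (b : G))) ∧
      ∀ e ∈ E, e ≠ 1 → θ e ≤ ⨆ b : {b : G // b ∈ B ∧ b ≠ 1}, θ (b : G) := by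
  haveI : Fact (Nat.Prime 2) := ⟨Nat.prime_two⟩
  have hθ := functor hE hcl
  obtain ⟨hW, hWc⟩ := (Signalizer.completes_two hE h8 hθ).closure hE h8 hθ.1
  set W := Cfsg.signalizerClosure E (Cfsg.centralizerPPrimeCore 2) with hWdef
  haveI : IsMulCommutative B := (PGroups.elemAb_mono hE hBE).1
  have hcop : (Nat.card B).Coprime (Nat.card W) := by
    obtain ⟨k, hk⟩ := IsPGroup.iff_card.1 (PGroups.elemAb_isPGroup (PGroups.elemAb_mono hE hBE))
    rw [hk]
    exact Nat.Coprime.pow_left _ (Nat.prime_two.coprime_iff_not_dvd.2 hW.2.1)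
  have hgen := Coprime.iSup_centralizer_eq hBc
    (hBE.trans (Signalizer.le_normalizer_of_mem hW)) hcop
  have hle : W ≤ ⨆ b : {b : G // b ∈ B ∧ b ≠ 1}, θ (b : G) := by
    refine hgen.ge.trans (iSup₂_le fun b hb => ?_)
    rw [hWc b (hBE hb.1) hb.2]
    exact le_iSup (fun b : {b : G // b ∈ B ∧ b ≠ 1} => θ (b : G)) ⟨b, hb⟩
  have hge : ∀ e ∈ E, e ≠ 1 → θ e ≤ W := fun e he he1 =>
    le_iSup (fun a : {a : G // a ∈ E ∧ a ≠ 1} => θ (a : G)) ⟨e, he, he1⟩
  have heq : W = ⨆ b : {b : G // b ∈ B ∧ b ≠ 1}, θ (b : G) :=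
    le_antisymm hle (iSup_le fun b => hge b (hBE b.2.1) b.2.2)
  rw [← heq]
  exact ⟨Nat.odd_iff.2 (by have := hW.2.1; omega), hge⟩

/-- Frattini in the centraliser of an involution. -/
theorem centralizer_le_sup {v : G} (hcl : TwoClosed ↥(centralizer ({v} : Set G)))
    {P : Subgroup G} (hP : IsPGroup 2 P) (hPC : P ≤ centralizer ({v} : Set G)) {N : Subgroup G}
    (hN : ∀ T : Subgroup G, IsPGroup 2 T → P ≤ T → T ≤ centralizer ({v} : Set G) →
      normalizer (T : Set G) ≤ N) :
    centralizer ({v} : Set G) ≤ θ v ⊔ N := by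
  set C := centralizer ({v} : Set G) with hC
  obtain ⟨T, hT⟩ := IsPGroup.exists_le_sylow (hP.comap_of_injective C.subtype C.subtype_injective)
  have h := congrArg (Subgroup.map C.subtype) (hcl.frattini T)
  rw [Subgroup.map_sup, ← MonoidHom.range_eq_map, Subgroup.range_subtype] at h
  refine h.ge.trans (sup_le (le_of_eq_of_le (oddCore_map_centralizer v) le_sup_left) ?_)
  refine ((le_normalizer_map C.subtype).trans ?_).trans le_sup_right
  exact hN _ (T.2.map _) (fun x hx => ⟨⟨x, hPC hx⟩, hT hx, rfl⟩) (map_subtype_le _)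

/-- All involution centralisers lie in the normaliser of `B`, or in that of the closure. -/
theorem normal_or_stronglyEmbedded (S : Sylow 2 G) (B : Subgroup G) (hBS : B ≤ (S : Subgroup G))
    (hO : Cfsg.oddCore G = ⊥) (hB : Cfsg.IsElementaryAbelian 2 B) (hBc : ¬ IsCyclic B)
    (hNS : normalizer ((S : Subgroup G) : Set G) ≤ normalizer (B : Set G))
    (hcl : ∀ v ∈ (S : Subgroup G), orderOf v = 2 → TwoClosed ↥(centralizer ({v} : Set G)))
    (hE : ∀ v ∈ (S : Subgroup G), orderOf v = 2 → ∃ E : Subgroup G,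
      Cfsg.IsElementaryAbelian 2 E ∧ 8 ≤ Nat.card E ∧ B ≤ E ∧ v ∈ E ∧ E ≤ (S : Subgroup G))
    (hC : ∀ v ∈ (S : Subgroup G), orderOf v = 2 →
      centralizer ({v} : Set G) ≤ θ v ⊔ normalizer (B : Set G)) :
    B.Normal ∨ ∃ M : Subgroup G, Cfsg.IsStronglyEmbedded M := by
  haveI : Fact (Nat.Prime 2) := ⟨Nat.prime_two⟩
  have hord : ∀ {e : G} {E : Subgroup G}, Cfsg.IsElementaryAbelian 2 E → e ∈ E → e ≠ 1 →
      orderOf e = 2 := fun hE' he he1 => orderOf_eq_prime (PGroups.elemAb_pow hE' he) he1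
  have hB1 : ∃ b ∈ B, b ≠ (1 : G) := by
    refine B.bot_or_exists_ne_one.resolve_left fun h => hBc ?_
    rw [h]; infer_instance
  obtain ⟨b₀, hb₀, hb₀1⟩ := hB1
  have hS1 : (S : Subgroup G) ≠ ⊥ := fun h => hb₀1 (by simpa [h] using hBS hb₀)
  set W : Subgroup G := ⨆ b : {b : G // b ∈ B ∧ b ≠ 1}, θ (b : G) with hW
  have hfacts : ∀ v ∈ (S : Subgroup G), orderOf v = 2 → Odd (Nat.card W) ∧ θ v ≤ W := by
    intro v hv hv2
    obtain ⟨E, hEe, h8, hBE, hvE, hES⟩ := hE v hv hv2
    obtain ⟨h1, h2⟩ := closure_facts hEe h8 hBE hBc fun e he he1 => hcl e (hES he) (hord hEe he he1)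
    exact ⟨h1, h2 v hvE fun h => by rw [h, orderOf_one] at hv2; omega⟩
  obtain ⟨hWodd, -⟩ := hfacts b₀ (hBS hb₀) (hord hB hb₀ hb₀1)
  have hNBW : normalizer (B : Set G) ≤ normalizer (W : Set G) := by
    intro n hn
    have hle : ∀ m ∈ normalizer (B : Set G), W.map (MulAut.conj m).toMonoidHom ≤ W := by
      intro m hm
      rw [hW, Subgroup.map_iSup]
      refine iSup_le fun b => ?_
      rw [← Balance.centralizerPPrimeCore_conj]
      exact le_iSup (fun b : {b : G // b ∈ B ∧ b ≠ 1} => θ (b : G))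
        ⟨m * b * m⁻¹, (mem_normalizer_iff.1 hm _).1 b.2.1,
          fun h => b.2.2 (conj_eq_one_iff.1 h)⟩
    refine mem_normalizer_iff.2 fun x => ⟨fun hx => hle n hn ⟨x, hx, rfl⟩, fun hx => ?_⟩
    have := hle n⁻¹ (inv_mem hn) ⟨_, hx, rfl⟩
    simpa [mul_assoc] using this
  -- one subgroup contains everything
  by_cases hW1 : W = ⊥
  · by_cases hBn : normalizer (B : Set G) = ⊤
    · exact Or.inl (normalizer_eq_top_iff.1 hBn)
    · refine Or.inr ⟨_, of_centralizers S hBn hS1 hNS fun v hv hv2 =>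
        (hC v hv hv2).trans (sup_le ?_ le_rfl)⟩
      exact ((hfacts v hv hv2).2.trans hW1.le).trans bot_le
  · refine Or.inr ⟨normalizer (W : Set G), of_centralizers S (fun h => hW1 ?_) hS1 (hNS.trans hNBW)
      fun v hv hv2 => (hC v hv hv2).trans (sup_le ((hfacts v hv hv2).2.trans le_normalizer) hNBW)⟩
    haveI := normalizer_eq_top_iff.1 h
    exact le_bot_iff.1 ((le_oddCore' hWodd).trans hO.le)

end Cfsg.Agent.Lib.U3Type59
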