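import Cfsg.Agent.Lib.U3Type59.Split
import Cfsg.Agent.Lib.U3Type59.Setting
import Cfsg.Agent.Lib.U3Type59.Homocyclic

/-!
# If `Ω₁(S)` centralises all components, `S` is normal (`S` of the type of `U₃(q)`, `O(X) = 1`)

In `C(Ω₁(S)) / Ω₁(S)` a component moved by the image of `S` would have an element preserving the norm
of the first coordinate and transitive on the involutions.
-/

set_option autoImplicit false
set_option linter.style.haveILetI false
set_option linter.unusedSectionVars false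

universe u w

namespace Cfsg.Agent.Lib.U3Type59

open Subgroup Goldschmidt53
open Goldschmidt53.FactsCover (omega_coords)

variable {X : Type u} [Group X] [Finite X] {F : Type w} [Field F] [Fintype F] {n : ℕ}
  (hF : Fintype.card F = (2 ^ n) ^ 2) {S : Sylow 2 X}
  (c : U3Sylow.Coords F (2 ^ n) ↥(S : Subgroup X))
include hF

omit [Group X] [Finite X] in
theorem fixed_of_form {u d : F} (hd : d ≠ 0) (h : u ^ 2 ^ n * d + u * d ^ 2 ^ n = 0) :
    (u / d) ^ 2 ^ n = u / d :=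
  (U3Sylow.fixed_div_iff hF hd).1 (by linear_combination h)

omit [Group X] [Finite X] in
theorem exists_fixed_ne (hn : 2 ≤ n) : ∃ y : F, y ^ 2 ^ n = y ∧ y ≠ 0 ∧ y ≠ 1 := by
  classical
  by_contra hall
  push Not at hall
  have h1 : Nat.card {x : F // x ^ 2 ^ n = x} ≤ Nat.card ({0, 1} : Set F) :=
    Nat.card_mono (Set.toFinite _) fun x hx => by
      rcases eq_or_ne x 0 with e | e
      · exact Or.inl e
      · exact Or.inr (hall x hx e)
  rw [Unitary.card_fixed hF, Nat.card_coe_set_eq, Set.ncard_pair zero_ne_one] at h1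
  have : 2 ^ 2 ≤ 2 ^ n := Nat.pow_le_pow_right two_pos hn
  omega

include c

/-- **`S` is normal if its `Ω₁` centralises every component.** -/
theorem sylow_normal (hn : 2 ≤ n) (hP : PropSimple.{u}) (hO : Cfsg.oddCore X = ⊥)
    (hall : ∀ K : Subgroup X, Cfsg.IsComponent K → Om S ≤ centralizer (K : Set X)) :
    (S : Subgroup X).Normal := by
  classical
  haveI : Fact (Nat.Prime 2) := ⟨Nat.prime_two⟩
  haveI := U3Sylow.charP_two hF
  have h := localSetting hF c hP hO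
  have hAp : Om S ≤ Cfsg.pCore 2 X := fun a ha => by
    refine (h.split Goldschmidt53.facts).trans (sup_le inf_le_right (iSup_le fun K => ?_)) ha
    rintro x ⟨hxA, hxK⟩
    exact h.center_mem K.2 (z := ⟨x, hxK⟩) (Subgroup.mem_center_iff.2 fun k =>
      Subtype.ext (mem_centralizer_iff.1 (hall K.1 K.2 hxA) k k.2))
  haveI hAn : (Om S).Normal := ⟨fun a ha g => (h.conj_core ha (hAp ha)).1⟩
  set C := centralizer (Om S : Set X) with hCdef
  haveI hCn : C.Normal := by rw [hCdef]; infer_instance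
  have hSC : (S : Subgroup X) ≤ C := fun s hs =>
    mem_centralizer_iff.2 fun a ha => (Om.comm hF c hs ha).symm
  refine sylow_normal_of_normal hO S C hSC (twoClosed_of_normal (S.subtype hSC) ?_)
  have hOC : Cfsg.oddCore ↥C = ⊥ := by
    haveI : (Cfsg.oddCore ↥C).Characteristic := Subgroup.characteristic_iff_map_eq.2 fun φ =>
      Cores.map_pPrimeCore_equiv φ
    haveI : ((Cfsg.oddCore ↥C).map C.subtype).Normal := Cores.normal_map_subtype C _
    have h1 := le_oddCore' (N := (Cfsg.oddCore ↥C).map C.subtype)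
      (by rw [card_map_of_injective C.subtype_injective]; exact oddCore_odd')
    rwa [hO, le_bot_iff, map_eq_bot_iff_of_injective _ C.subtype_injective] at h1
  set Z : Subgroup ↥C := (Om S).subgroupOf C with hZdef
  haveI hZn : Z.Normal := hAn.subgroupOf C
  have hZc : Z ≤ Subgroup.center ↥C := fun z hz => Subgroup.mem_center_iff.2 fun x =>
    Subtype.ext ((mem_centralizer_iff.1 x.2 z hz).symm)
  have hZ2 : IsPGroup 2 ↥Z := fun z => ⟨1, Subtype.ext (Subtype.ext (by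
    push_cast; rw [pow_two]; exact Om.sq hF c (mem_subgroupOf.1 z.2)))⟩
  set μ := QuotientGroup.mk' Z with hμ
  let π : ↥(S : Subgroup X) →* ↥C ⧸ Z := μ.comp (inclusion hSC)
  let T : Sylow 2 (↥C ⧸ Z) :=
    (S.subtype hSC).mapSurjective (f := μ) (QuotientGroup.mk'_surjective Z)
  have hT : ∀ y, y ∈ (T : Subgroup (↥C ⧸ Z)) ↔ ∃ s, π s = y := by
    intro y
    rw [show (T : Subgroup (↥C ⧸ Z)) = ((S.subtype hSC : Sylow 2 ↥C) : Subgroup ↥C).map μ from rfl,
      Sylow.coe_subtype, mem_map]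
    exact ⟨fun ⟨x, hx, e⟩ => ⟨⟨x, hx⟩, e⟩, fun ⟨s, e⟩ => ⟨inclusion hSC s, s.2, e⟩⟩
  have hπT : ∀ s, π s ∈ (T : Subgroup (↥C ⧸ Z)) := fun s => (hT _).2 ⟨s, rfl⟩
  have hπ1 : ∀ s, π s = 1 ↔ c.a s = 0 := fun s =>
    (QuotientGroup.eq_one_iff _).trans (mem_subgroupOf.trans (omega_coords hF S c s))
  have hπeq : ∀ s t, π s = π t ↔ c.a s = c.a t := by
    intro s t
    rw [← mul_inv_eq_one, ← map_inv, ← map_mul, hπ1]
    have h1 : c.a s = c.a (s * t⁻¹) + c.a t := by rw [← c.a_mul, inv_mul_cancel_right]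
    constructor <;> intro e
    · rw [h1, e, zero_add]
    · linear_combination e - h1
  have hTc : ∀ t ∈ (T : Subgroup (↥C ⧸ Z)), ∀ a ∈ (T : Subgroup (↥C ⧸ Z)), t * a = a * t := by
    intro t ht a ha
    obtain ⟨t, rfl⟩ := (hT t).1 ht
    obtain ⟨a, rfl⟩ := (hT a).1 ha
    rw [← map_mul, ← map_mul, hπeq, c.a_mul, c.a_mul, add_comm]
  have hT2 : ∀ t ∈ (T : Subgroup (↥C ⧸ Z)), t * t = 1 := by
    intro t ht
    obtain ⟨t, rfl⟩ := (hT t).1 ht
    rw [← map_mul, hπ1, c.a_sq hF]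
  have h' : LocalSetting T (T : Subgroup (↥C ⧸ Z)) (Nat.card (↥C ⧸ Z) + 1) :=
    ⟨oddCore_quotient_eq_bot Z hZc hZ2 hOC, Nat.lt_succ_self _, hP _,
      PGroups.elemAb_mk (fun x hx y hy => hTc x hx y hy) (fun x hx => by rw [pow_two]; exact hT2 x hx),
      le_rfl, fun x _ g hg => hg⟩
  by_cases hcase : ∀ L : Subgroup (↥C ⧸ Z), Cfsg.IsComponent L →
      ∀ x : ↥L, (x : ↥C ⧸ Z) ∈ (T : Subgroup (↥C ⧸ Z)) → x ∈ Subgroup.center ↥L
  · have hle : (T : Subgroup (↥C ⧸ Z)) ≤ Cfsg.pCore 2 (↥C ⧸ Z) := fun a ha => by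
      refine (h'.split Goldschmidt53.facts).trans (sup_le inf_le_right (iSup_le fun L => ?_)) ha
      rintro x ⟨hxT, hxL⟩
      exact h'.center_mem L.2 (hcase L.1 L.2 ⟨x, hxL⟩ hxT)
    haveI : (T : Subgroup (↥C ⧸ Z)).Normal := by
      rw [le_antisymm hle (Cores.pCore_le_sylow T)]
      exact Goldschmidt53.pCore_normal _
    have heq : ((S.subtype hSC : Sylow 2 ↥C) : Subgroup ↥C) = (T : Subgroup (↥C ⧸ Z)).comap μ := by
      ext x
      rw [Sylow.coe_subtype, mem_comap, hT, mem_subgroupOf]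
      refine ⟨fun hx => ⟨⟨x, hx⟩, rfl⟩, fun ⟨s, e⟩ => ?_⟩
      have h1 : (inclusion hSC s)⁻¹ * x ∈ Z := QuotientGroup.eq.1 e
      have h2 := mul_mem s.2 (PGroups.omegaOne_le 2 _ (mem_subgroupOf.1 h1))
      simpa using h2
    rw [heq]
    infer_instance
  exfalso
  push Not at hcase
  obtain ⟨L, hL, x₀, hx₀, hx₀Z⟩ := hcase
  have hc : ¬ ∀ x : ↥L, (x : ↥C ⧸ Z) ∈ (T : Subgroup (↥C ⧸ Z)) → x ∈ Subgroup.center ↥L :=
    fun hc => hx₀Z (hc x₀ hx₀)
  obtain ⟨hk, P, hTP, hPT, hOm⟩ := h'.known hL hc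
  have hfacts := Goldschmidt53.facts _ hk
  obtain ⟨ν, hνN, -, htrans⟩ := hfacts.torus P
  set q := QuotientGroup.mk' (Subgroup.center ↥L) with hq
  obtain ⟨v, hv⟩ := QuotientGroup.mk'_surjective (Subgroup.center ↥L) ν
  set w : ↥C ⧸ Z := (v : ↥C ⧸ Z) with hw
  have hPOm : ∀ y ∈ (P : Subgroup _), y ∈ Om P := fun y hy => by
    obtain ⟨x, hx, rfl⟩ := hPT y hy
    exact hOm ▸ mem_map_of_mem q (show x ∈ (T : Subgroup (↥C ⧸ Z)).subgroupOf L from hx)
  have hcenT : ∀ z : ↥L, z ∈ Subgroup.center ↥L →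
      (z : ↥C ⧸ Z) ∈ (T : Subgroup (↥C ⧸ Z)) ∧ (z : ↥C ⧸ Z) ∈ centralizer (L : Set (↥C ⧸ Z)) :=
    fun z hz => ⟨h'.center_mem_sylow hL hz, mem_centralizer_iff.2 fun y hy =>
      congrArg Subtype.val (Subgroup.mem_center_iff.1 hz ⟨y, hy⟩)⟩
  -- the split of an element of `T`
  have hsplit : ∀ t ∈ (T : Subgroup (↥C ⧸ Z)), ∃ r : ↥L, (r : ↥C ⧸ Z) ∈ (T : Subgroup (↥C ⧸ Z)) ∧
      (r : ↥C ⧸ Z)⁻¹ * t ∈ centralizer (L : Set (↥C ⧸ Z)) := fun t ht => by
    obtain ⟨r, hrL, hrT, hr⟩ := exists_mul_centralizer h' hTc hL hc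
      (fun a ha b hb => by rw [hTc a ha b hb, mul_inv_cancel_right, mul_inv_cancel]; exact one_mem _)
      ht
    exact ⟨⟨r, hrL⟩, hrT, hr⟩
  have hwT : ∀ t ∈ (T : Subgroup (↥C ⧸ Z)), w * t * w⁻¹ ∈ (T : Subgroup (↥C ⧸ Z)) := by
    intro t ht
    obtain ⟨r, hrT, hr⟩ := hsplit t ht
    obtain ⟨r', hr'T, hr'⟩ := hPT _ ((mem_normalizer_iff.1 hνN _).1 (hTP r hrT))
    rw [← hv, ← map_inv, ← map_mul, ← map_mul] at hr'
    have hz := hcenT _ (QuotientGroup.eq.1 hr')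
    have e : w * t * w⁻¹ = ((r' : ↥C ⧸ Z) * ((r'⁻¹ * (v * r * v⁻¹) : ↥L) : ↥C ⧸ Z)) *
        ((r : ↥C ⧸ Z)⁻¹ * t) := by
      have hcm := mem_centralizer_iff.1 hr _ (inv_mem v.2)
      push_cast
      calc w * t * w⁻¹ = w * r * (((r : ↥C ⧸ Z)⁻¹ * t) * w⁻¹) := by group
        _ = w * r * (w⁻¹ * ((r : ↥C ⧸ Z)⁻¹ * t)) := by rw [hw, ← hcm]
        _ = _ := by rw [hw]; group
    rw [e]
    exact mul_mem (mul_mem hr'T hz.1) (mul_mem (inv_mem hrT) ht)
  obtain ⟨g, hg⟩ := QuotientGroup.mk'_surjective Z w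
  -- the norm is invariant
  have hN : ∀ s t, π t = w * π s * w⁻¹ →
      c.a t * c.a t ^ 2 ^ n = c.a s * c.a s ^ 2 ^ n := by
    intro s t ht
    obtain ⟨s', hs'⟩ := (hT _).1 (hwT _ (hπT s))
    have h1 : (inclusion hSC s')⁻¹ * (g * inclusion hSC s * g⁻¹) ∈ Z :=
      QuotientGroup.eq.1 (by
        show μ (inclusion hSC s') = μ (g * inclusion hSC s * g⁻¹)
        rw [map_mul, map_mul, map_inv, hg]
        exact hs')
    have hgS : (g : X) * s * (g : X)⁻¹ ∈ (S : Subgroup X) := by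
      simpa using mul_mem s'.2 (PGroups.omegaOne_le 2 _ (mem_subgroupOf.1 h1))
    set s'' : ↥(S : Subgroup X) := ⟨_, hgS⟩
    have e : π s'' = π t := by
      rw [ht, ← hg]
      show μ (inclusion hSC s'') = μ g * μ (inclusion hSC s) * (μ g)⁻¹
      rw [← map_inv, ← map_mul, ← map_mul]
      exact congrArg μ (Subtype.ext rfl)
    have hA : ((s * s : ↥(S : Subgroup X)) : X) ∈ Om S :=
      (omega_coords hF S c (s * s)).2 (c.a_sq hF s)
    have hsq : s'' * s'' = s * s := Subtype.ext (by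
      show (g : X) * s * (g : X)⁻¹ * ((g : X) * s * (g : X)⁻¹) = (s : X) * s
      calc (g : X) * s * (g : X)⁻¹ * ((g : X) * s * (g : X)⁻¹)
          = (g : X) * ((s : X) * s) * (g : X)⁻¹ := by group
        _ = (s : X) * s := by
          rw [show (g : X) * ((s : X) * s) = (s : X) * s * g from
            (mem_centralizer_iff.1 g.2 _ hA).symm, mul_inv_cancel_right])
    have hb := congrArg c.b hsq
    rw [c.b_sq hF, c.b_sq hF, (hπeq _ _).1 e] at hb
    exact hb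
  have hinj : ∀ x ∈ Om P, ν * x * ν⁻¹ = x → x = 1 := by
    intro x hx hfix
    by_contra hx1
    have hpow : ∀ k : ℕ, ν ^ k * x * (ν ^ k)⁻¹ = x := fun k =>
      mul_inv_eq_of_eq_mul ((Commute.pow_left (mul_inv_eq_iff_eq_mul.1 hfix) k).eq)
    have hsub : Nat.card ↥(Om P) ≤ Nat.card ({1, x} : Set _) :=
      Nat.card_mono (Set.toFinite _) fun y hy => by
        rcases eq_or_ne y 1 with e | e
        · exact Or.inl e
        · obtain ⟨k, hk⟩ := htrans x hx hx1 y hy e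
          exact Or.inr (hk.symm.trans (hpow k))
    rw [Nat.card_coe_set_eq, Set.ncard_pair (Ne.symm hx1)] at hsub
    have := hfacts.four_le P
    omega
  have hconjC : ∀ d, π d ∈ centralizer (L : Set (↥C ⧸ Z)) → w * π d * w⁻¹ = π d := fun d hd => by
    rw [mem_centralizer_iff.1 hd w v.2, mul_inv_cancel_right]
  by_cases hD : ∃ d, π d ∈ centralizer (L : Set (↥C ⧸ Z)) ∧ c.a d ≠ 0
  · obtain ⟨d, hdC, hd0⟩ := hD
    -- commutators with `w` are proportional to the fixed elements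
    have hB : ∀ s t e, π t = w * π s * w⁻¹ → π e ∈ centralizer (L : Set (↥C ⧸ Z)) → c.a e ≠ 0 →
        ((c.a t + c.a s) / c.a e) ^ 2 ^ n = (c.a t + c.a s) / c.a e := by
      intro s t e ht he he0
      refine fixed_of_form hF he0 ?_
      have h1 := hN (s * e) (t * e) (by
        rw [map_mul, map_mul, ht]
        calc w * π s * w⁻¹ * π e = w * π s * w⁻¹ * (w * π e * w⁻¹) := by rw [hconjC e he]
          _ = _ := by group)
      have h2 := hN s t ht
      rw [c.a_mul, c.a_mul, Unitary.add_pow_q hF, Unitary.add_pow_q hF] at h1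
      rw [Unitary.add_pow_q hF]
      linear_combination h1 - h2 +
        (c.a s * c.a e ^ 2 ^ n + c.a e * c.a s ^ 2 ^ n) * U3Sylow.two_eq_zero hF
    obtain ⟨x₁, hx₁, hx₁'⟩ : ∃ x ∈ Om P, x ≠ 1 := by
      by_contra hh
      push Not at hh
      have : Nat.card ↥(Om P) ≤ 1 := by
        rw [Subgroup.card_le_one_iff_eq_bot, eq_bot_iff]
        exact fun x hx => Subgroup.mem_bot.2 (hh x hx)
      have := hfacts.four_le P
      omega
    obtain ⟨r₁, hr₁, hqr₁⟩ := hPT x₁ (PGroups.omegaOne_le 2 _ hx₁)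
    obtain ⟨s₁, hs₁⟩ := (hT _).1 hr₁
    obtain ⟨t₁, ht₁⟩ := (hT _).1 (hwT _ (hπT s₁))
    have hu : c.a t₁ + c.a s₁ ≠ 0 := by
      intro hu
      have e : π t₁ = π s₁ := (hπeq _ _).2 (CharTwo.add_eq_zero.1 hu)
      rw [ht₁, hs₁] at e
      refine hx₁' (hinj x₁ hx₁ ?_)
      rw [← hqr₁, ← hv, ← map_inv, ← map_mul, ← map_mul]
      exact congrArg q (Subtype.ext e)
    have hDfix : ∀ e, π e ∈ centralizer (L : Set (↥C ⧸ Z)) →
        (c.a e / c.a d) ^ 2 ^ n = c.a e / c.a d := by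
      intro e he
      by_cases he0 : c.a e = 0
      · rw [he0, zero_div, Unitary.zero_pow_q hF]
      have h1 := hB s₁ t₁ e ht₁ he he0
      have h2 := hB s₁ t₁ d ht₁ hdC hd0
      rw [show c.a e / c.a d =
        ((c.a t₁ + c.a s₁) / c.a d) / ((c.a t₁ + c.a s₁) / c.a e) by field_simp, div_pow, h1, h2]
    obtain ⟨z, hz⟩ := U3Sylow.exists_not_fixed hF
    obtain ⟨s, hs⟩ := c.exists_a hF (z * c.a d)
    refine hz ?_
    rw [show z = c.a s / c.a d by rw [hs, mul_div_cancel_right₀ _ hd0]]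
    obtain ⟨r, hrT, hr⟩ := hsplit _ (hπT s)
    -- `x ↦ x * ν x ν⁻¹` is onto `Ω₁(P)`
    let φ : ↥(Om P) → ↥(Om P) := fun x => ⟨x * (ν * x * ν⁻¹), mul_mem x.2 (hPOm _
      ((mem_normalizer_iff.1 hνN _).1 (PGroups.omegaOne_le 2 _ x.2)))⟩
    have hφ : Function.Surjective φ := by
      refine Finite.injective_iff_surjective.1 fun x y e => ?_
      have hy' : ν * (y : ↥L ⧸ Subgroup.center ↥L) * ν⁻¹ ∈ Om P :=
        hPOm _ ((mem_normalizer_iff.1 hνN _).1 (PGroups.omegaOne_le 2 _ y.2))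
      haveI := (hfacts.omega_elementary P).1
      have e1 : (x : ↥L ⧸ Subgroup.center ↥L) * (ν * x * ν⁻¹) = y * (ν * y * ν⁻¹) := congrArg Subtype.val e
      refine Subtype.ext (inv_mul_eq_one.1 (hinj _ (mul_mem (inv_mem y.2) x.2) ?_)).symm
      have sqy : ((y : ↥L ⧸ Subgroup.center ↥L))⁻¹ = y :=
        inv_eq_of_mul_eq_one_right (by rw [← pow_two]; exact (hfacts.omega_elementary P).2 _ y.2)
      have sqx : ((x : ↥L ⧸ Subgroup.center ↥L))⁻¹ = x :=
        inv_eq_of_mul_eq_one_right (by rw [← pow_two]; exact (hfacts.omega_elementary P).2 _ x.2)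
      calc ν * ((y : ↥L ⧸ Subgroup.center ↥L)⁻¹ * x) * ν⁻¹
          = (ν * y * ν⁻¹)⁻¹ * ((x : ↥L ⧸ Subgroup.center ↥L)⁻¹ * ((x : ↥L ⧸ Subgroup.center ↥L) * (ν * x * ν⁻¹))) := by group
        _ = (ν * y * ν⁻¹)⁻¹ * ((x : ↥L ⧸ Subgroup.center ↥L) * y) * (ν * y * ν⁻¹) := by rw [e1, sqx]; group
        _ = (ν * y * ν⁻¹)⁻¹ * ((ν * y * ν⁻¹) * ((x : ↥L ⧸ Subgroup.center ↥L) * y)) := by
          rw [mul_assoc, setLike_mul_comm (mul_mem x.2 y.2) hy']
        _ = (y : ↥L ⧸ Subgroup.center ↥L)⁻¹ * x := by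
          rw [inv_mul_cancel_left, sqy, setLike_mul_comm x.2 y.2]
    obtain ⟨x, hx⟩ := hφ ⟨q r, hPOm _ (hTP r hrT)⟩
    obtain ⟨r₂, hr₂, hqr₂⟩ := hPT x (PGroups.omegaOne_le 2 _ x.2)
    obtain ⟨s₂, hs₂⟩ := (hT _).1 hr₂
    obtain ⟨t₂, ht₂⟩ := (hT _).1 (hwT _ (hπT s₂))
    set e := (s₂ * t₂)⁻¹ * s with hedef
    have hx' : q (r₂ * (v * r₂ * v⁻¹)) = q r := by
      rw [map_mul, map_mul, map_mul, map_inv, hv, hqr₂]
      exact congrArg Subtype.val hx
    have he : π e ∈ centralizer (L : Set (↥C ⧸ Z)) := by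
      have hzc := (hcenT _ (QuotientGroup.eq.1 hx')).2
      rw [hedef, map_mul, map_inv, map_mul, ht₂, hs₂]
      have := mul_mem hzc hr
      simpa [hw, mul_assoc] using this
    have hse : c.a s = (c.a t₂ + c.a s₂) + c.a e := by
      conv_lhs => rw [show s = (s₂ * t₂) * e by rw [hedef, mul_inv_cancel_left]]
      rw [c.a_mul, c.a_mul, add_comm (c.a s₂)]
    rw [hse, add_div, Unitary.add_pow_q hF, hB s₂ t₂ d ht₂ hdC hd0, hDfix e he]
  · push Not at hD
    have hpow : ∀ (k : ℕ) s, ∃ t, π t = w ^ k * π s * (w ^ k)⁻¹ ∧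
        c.a t * c.a t ^ 2 ^ n = c.a s * c.a s ^ 2 ^ n := by
      intro k
      induction k with
      | zero => intro s; exact ⟨s, by simp, rfl⟩
      | succ k ih =>
        intro s
        obtain ⟨t, ht, htN⟩ := ih s
        obtain ⟨t', ht'⟩ := (hT _).1 (hwT _ (hπT t))
        refine ⟨t', ?_, (hN t t' ht').trans htN⟩
        rw [ht', ht, pow_succ']
        group
    have hin : ∀ s, c.a s ≠ 0 → ∃ r : ↥L, (r : ↥C ⧸ Z) = π s ∧ q r ∈ Om P ∧ q r ≠ 1 := by
      intro s hs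
      obtain ⟨r, hrT, hr⟩ := hsplit _ (hπT s)
      obtain ⟨d, hd⟩ := (hT _).1 (mul_mem (inv_mem hrT) (hπT s))
      have h1 : π d = 1 := (hπ1 d).2 (hD d (hd.symm ▸ hr))
      rw [hd, inv_mul_eq_one] at h1
      refine ⟨r, h1, hPOm _ (hTP r hrT), fun e => hs (hD s ?_)⟩
      rw [← h1]
      exact (hcenT _ ((QuotientGroup.eq_one_iff _).1 e)).2
    obtain ⟨s₀, hs₀⟩ := c.exists_a hF 1
    obtain ⟨y, hy, hy0, hy1⟩ := exists_fixed_ne hF hn
    obtain ⟨s, hs⟩ := c.exists_a hF y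
    obtain ⟨r₀, hr₀, hr₀O, hr₀1⟩ := hin s₀ (by rw [hs₀]; exact one_ne_zero)
    obtain ⟨r, hr, hrO, hr1⟩ := hin s (by rw [hs]; exact hy0)
    obtain ⟨k, hk⟩ := htrans _ hr₀O hr₀1 _ hrO hr1
    obtain ⟨t, ht, htN⟩ := hpow k s₀
    rw [← hv, ← map_pow, ← map_inv, ← map_mul, ← map_mul] at hk
    have hz := (hcenT _ (QuotientGroup.eq.1 hk)).2
    have he : c.a (t⁻¹ * s) = 0 := by
      refine hD _ ?_
      rw [map_mul, map_inv, ht, ← hr, ← hr₀]
      simpa [hw, mul_assoc] using hz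
    have hts : c.a t = c.a s := by
      have := c.a_mul t (t⁻¹ * s)
      rw [mul_inv_cancel_left, he, add_zero] at this
      exact this.symm
    rw [hts, hs, hs₀, hy, one_pow, one_mul] at htN
    rcases mul_self_eq_one_iff.1 htN with e | e
    · exact hy1 e
    · exact hy1 (by rw [e, CharTwo.neg_eq])

end Cfsg.Agent.Lib.U3Type59
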