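import Cfsg.Agent.Lib.U3Type59.Comp
import Cfsg.Agent.Lib.U3Type59.Soluble
import Cfsg.Agent.Lib.PSolvable.PLength
import Cfsg.Agent.Lib.OddOrder.FeitThompson

/-!
# The statement of S3177, from Goldschmidt's theorem for simple groups

helper59.
-/

set_option autoImplicit false
set_option linter.style.haveILetI false

universe u w

namespace Cfsg.Agent.Lib.U3Type59

open Subgroup Goldschmidt53

/-- **Sylow 2-subgroups of the type of `U₃(q)`, `q ≥ 4`.** -/
theorem row3177 (hP : PropSimple.{u}) {G : Type u} [Group G] [Finite G] (n : ℕ) (hn : 2 ≤ n)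
    {F : Type w} [Field F] [Fintype F] (hF : Fintype.card F = 4 ^ n)
    (S : Sylow 2 G) (P : Sylow 2 (Cfsg.PSU 3 F (2 ^ n)))
    (hS : Nonempty (↥(S : Subgroup G) ≃* ↥(P : Subgroup (Cfsg.PSU 3 F (2 ^ n))))) :
    (Group.IsSolvable G ∧ Cfsg.PLengthLE 2 1 G) ∨
      ∃ N : Subgroup (G ⧸ Cfsg.oddCore G), N.Normal ∧ Odd N.index ∧
        Nonempty (↥N ≃* Cfsg.PSU 3 F (2 ^ n)) := by
  classical
  haveI : Fact (Nat.Prime 2) := ⟨Nat.prime_two⟩
  have hF' : Fintype.card F = (2 ^ n) ^ 2 := by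
    rw [hF, ← pow_mul, mul_comm, pow_mul]
    norm_num
  obtain ⟨c₀⟩ := U3Sylow.exists_coords_PSU hF' P
  obtain ⟨e⟩ := hS
  set O := Cfsg.oddCore G with hOdef
  set μ := QuotientGroup.mk' O with hμ
  let S' : Sylow 2 (G ⧸ O) := S.mapSurjective (f := μ) (QuotientGroup.mk'_surjective O)
  have hinj : Function.Injective (μ.subgroupMap (S : Subgroup G)) := by
    refine (injective_iff_map_eq_one _).2 fun s hs => Subtype.ext ?_
    have h1 : (s : G) ∈ O := (QuotientGroup.eq_one_iff _).1 (congrArg Subtype.val hs)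
    exact eq_one_of_odd (twoElt_of_mem S.2 s.2) (odd_orderOf_of_mem oddCore_odd' h1)
  let eS : ↥(S : Subgroup G) ≃* ↥(S' : Subgroup (G ⧸ O)) :=
    MulEquiv.ofBijective (μ.subgroupMap (S : Subgroup G))
      ⟨hinj, μ.subgroupMap_surjective (S : Subgroup G)⟩
  let c : U3Sylow.Coords F (2 ^ n) ↥(S' : Subgroup (G ⧸ O)) := c₀.trans (eS.symm.trans e)
  have hO : Cfsg.oddCore (G ⧸ O) = ⊥ := Cores.pPrimeCore_quotient_pPrimeCore 2
  by_cases hK : ∃ K : Subgroup (G ⧸ O), Cfsg.IsComponent K ∧ ¬ Om S' ≤ centralizer (K : Set (G ⧸ O))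
  · obtain ⟨K, hK, hAK⟩ := hK
    exact Or.inr (exists_psu hF' c (by omega) hP hO hK hAK)
  left
  push Not at hK
  haveI := sylow_normal hF' c hn hP hO hK
  have hidx : Odd (S' : Subgroup (G ⧸ O)).index :=
    Nat.odd_iff.2 (Nat.two_dvd_ne_zero.1 S'.not_dvd_index)
  refine ⟨?_, ?_⟩
  · rw [Group.isSolvable_iff_subgroup_quotient O]
    refine ⟨OddOrder.FeitThompson.isSolvable_of_odd_card oddCore_odd', ?_⟩
    rw [Group.isSolvable_iff_subgroup_quotient (S' : Subgroup (G ⧸ O))]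
    haveI := S'.2.isNilpotent
    exact ⟨inferInstance, OddOrder.FeitThompson.isSolvable_of_odd_card hidx⟩
  · refine PSolvable.pLengthLE_of_quotient_pPrime (N := O)
      (Nat.coprime_two_right.2 oddCore_odd') ?_
    refine PSolvable.pLengthLE_succ_of_quotient (N := (S' : Subgroup (G ⧸ O)))
      (k := 0) ?_ (PSolvable.pLengthLE_zero_iff.2 S'.not_dvd_index)
    obtain ⟨m, hm⟩ := IsPGroup.iff_card.1 S'.2
    exact PSolvable.le_upperPSeries_even (k := 0) (N := ⊥) bot_le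
      ⟨m, by rw [Subgroup.relIndex_bot_left, hm]⟩

end Cfsg.Agent.Lib.U3Type59
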