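import Cfsg.Agent.Lib.Goldschmidt53.Facts
import Cfsg.Agent.Lib.Goldschmidt53.Local
import Cfsg.Agent.Lib.Components.Basic

/-!
# Components moved by a strongly closed subgroup whose Sylow overgroup is of class two over it

`S` centralises `A` and its commutators lie in `A`: then `S` normalises every component `K` with
`A ≰ C(K)` and `S = (S ∩ K) C_S(K)`.
-/

set_option autoImplicit false
set_option linter.style.haveILetI false
set_option linter.unusedSectionVars false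

universe u

namespace Cfsg.Agent.Lib.U3Type59

open Subgroup Goldschmidt53

variable {X : Type u} [Group X] [Finite X] {T : Sylow 2 X} {A : Subgroup X} {m : ℕ}
  (h : LocalSetting T A m) (hA : ∀ t ∈ (T : Subgroup X), ∀ a ∈ A, t * a = a * t)
  {K : Subgroup X} (hK : Cfsg.IsComponent K)
  (hc : ¬ ∀ x : ↥K, (x : X) ∈ A → x ∈ Subgroup.center ↥K)
include h hA hK hc

/-- `T` normalises `K`. -/
theorem sylow_le_normalizer : (T : Subgroup X) ≤ normalizer (K : Set X) := by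
  intro t ht
  rw [mem_normalizer_iff_map_conj_eq]
  by_contra hne
  refine hc fun x hx => Subgroup.mem_center_iff.2 fun y => Subtype.ext ?_
  have hx' : (x : X) ∈ K.map (MulAut.conj t).toMonoidHom := ⟨x, x.2, by
    show t * (x : X) * t⁻¹ = x
    rw [hA t ht x hx, mul_inv_cancel_right]⟩
  exact ((Subgroup.mem_centralizer_iff.1
    (Components.Component.le_centralizer_of_ne (Components.Component.conj hK t) hK hne hx')) y y.2)

/-- Elements of `T` act on `K` as elements of `T ∩ K` do. -/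
theorem exists_mul_centralizer
    (hcomm : ∀ t ∈ (T : Subgroup X), ∀ s ∈ (T : Subgroup X), t * s * t⁻¹ * s⁻¹ ∈ A)
    {t : X} (ht : t ∈ (T : Subgroup X)) :
    ∃ r ∈ K, r ∈ (T : Subgroup X) ∧ r⁻¹ * t ∈ centralizer (K : Set X) := by
  haveI : Fact (Nat.Prime 2) := ⟨Nat.prime_two⟩
  obtain ⟨hk, P, hTP, hPT, hOm⟩ := h.known hK hc
  set Z := Subgroup.center ↥K with hZ
  set q := QuotientGroup.mk' Z with hq
  have hn := sylow_le_normalizer h hA hK hc ht
  set e : MulAut ↥K := K.normalizerMonoidHom ⟨t, hn⟩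
  have he : ∀ x : ↥K, ((e x : ↥K) : X) = t * x * t⁻¹ := fun x => rfl
  let α : MulAut (↥K ⧸ Z) :=
    QuotientGroup.congr Z Z e (Subgroup.characteristic_iff_map_eq.1 inferInstance e)
  have hα : ∀ x : ↥K, α (q x) = q (e x) := fun x => rfl
  have hpow : ∀ (j : ℕ) (x : ↥K), (α ^ j) (q x) = q ((e ^ j) x) := by
    intro j
    induction j with
    | zero => intro x; rfl
    | succ j ih => intro x; rw [pow_succ', pow_succ', MulAut.mul_apply, ih, hα]; rfl
  obtain ⟨i, hi⟩ := IsPGroup.iff_orderOf.1 T.isPGroup' ⟨t, ht⟩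
  rw [Subgroup.orderOf_mk] at hi
  have hone : α ^ 2 ^ i = 1 := by
    refine MulEquiv.ext fun y => ?_
    obtain ⟨x, rfl⟩ := QuotientGroup.mk'_surjective Z y
    rw [hpow, ← map_pow, show (⟨t, hn⟩ : ↥(normalizer (K : Set X))) ^ 2 ^ i = 1 from Subtype.ext (by
      push_cast; rw [← hi]; exact pow_orderOf_eq_one t), map_one]
    rfl
  obtain ⟨j, -, hj⟩ := (Nat.dvd_prime_pow Nat.prime_two).1 (orderOf_dvd_of_pow_eq_one hone)
  have hfix : ∀ x ∈ Om P, α x = x := by
    intro x hx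
    rw [← hOm] at hx
    obtain ⟨w, hw, rfl⟩ := hx
    rw [hα]
    refine congrArg q (Subtype.ext ?_)
    rw [he, hA t ht w hw, mul_inv_cancel_right]
  have hmod : ∀ x ∈ (P : Subgroup (↥K ⧸ Z)), x⁻¹ * α x ∈ Om P := by
    intro x hx
    obtain ⟨w, hwT, rfl⟩ := hPT x hx
    rw [hα, ← map_inv, ← map_mul, ← hOm]
    refine ⟨w⁻¹ * e w, mem_subgroupOf.2 ?_, rfl⟩
    push_cast
    rw [he, show (w : X)⁻¹ * (t * w * t⁻¹) = (w : X)⁻¹ * t * ((w : X)⁻¹)⁻¹ * t⁻¹ by group]
    exact hcomm _ (inv_mem hwT) t ht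
  obtain ⟨g, hgP, hg⟩ := (Goldschmidt53.facts _ hk).split P α ⟨j, hj⟩ hfix hmod
  obtain ⟨r, hrT, rfl⟩ := hPT g hgP
  refine ⟨r, r.2, hrT, ?_⟩
  refine LocalSetting.mem_centralizer_of_mod hK fun k hk => ?_
  set k' : ↥K := ⟨k, hk⟩
  have h1 : q (r⁻¹ * e k' * r * k'⁻¹) = 1 := by
    rw [map_mul, map_mul, map_mul, map_inv, map_inv, ← hα, hg]
    group
  have h2 := (QuotientGroup.eq_one_iff _).1 h1
  have h3 : (r : X)⁻¹ * t * k * ((r : X)⁻¹ * t)⁻¹ * k⁻¹ =
      ((r⁻¹ * e k' * r * k'⁻¹ : ↥K) : X) := by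
    push_cast
    rw [he]
    group
    rfl
  refine ⟨h3 ▸ SetLike.coe_mem _, fun y hy => ?_⟩
  rw [h3]
  exact congrArg Subtype.val (Subgroup.mem_center_iff.1 h2 ⟨y, hy⟩)

end Cfsg.Agent.Lib.U3Type59
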